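import Groth.Agent.L14.Chev.Cell.Generated
import Groth.Agent.L14.TypeR.CellHom
import Groth.Agent.L08.TorusWeights.CentReductive
import Groth.Agent.L14.RankOne.Cell

/-!
The centraliser of the kernel of a root in a split reductive group and its cell.
-/

set_option autoImplicit false
universe u

open CategoryTheory CategoryTheory.Limits AlgebraicGeometry MonoidalCategory CartesianMonoidalCategory MonObj
open Groth.L14.RankOne Groth.L25 Groth.L14.Chart Groth.L14.Chev.Cell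

set_option backward.isDefEq.respectTransparency.types false
set_option linter.style.haveILetI false
set_option linter.unusedSectionVars false
set_option maxHeartbeats 2000000

noncomputable section

namespace Groth.L14.Coroot

variable {S : Scheme.{u}} {G : Over S} [GrpObj G] {D : Red.SplitRed G}

/-- The multiplier of a torus point on a root is trivial when its character kills the root. -/
theorem root_conj_trivial {X : Over S} (c : D.idx) {r : ℕ} (φ : D.M →+ (Fin r → ℤ)) (hc : φ (D.P.root c) = 0)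
    (h : X ⟶ Red.DS S (Fin r → ℤ)) (x : X ⟶ Red.Ga S) :
    (x ≫ D.u c) * (h ≫ Red.DSmap S φ ≫ D.split.inv.hom.hom ≫ D.i) =
      (h ≫ Red.DSmap S φ ≫ D.split.inv.hom.hom ≫ D.i) * (x ≫ D.u c) := by
  obtain ⟨y, hy, hy'⟩ := (D.rootHom c).2.2 X (h ≫ Red.DSmap S φ ≫ D.split.inv.hom.hom) x
  have h1 : Red.gmFn ((h ≫ Red.DSmap S φ ≫ D.split.inv.hom.hom) ≫ D.split.hom.hom.hom ≫ Red.chi S (D.P.root c)) = 1 := by
    simp only [Category.assoc]
    rw [← Category.assoc D.split.inv.hom.hom, split_inv_hom, Category.id_comp, gmFn_eq_char, Red.chi,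
      ← Category.assoc, SplitSub.char_DSmap, SplitSub.char_DSmap]
    show DSPts.char h (Multiplicative.ofAdd (φ ((zmultiplesHom D.M (D.P.root c)) (1 : ℤ)))) = 1
    rw [zmultiplesHom_apply, one_zsmul, hc, ofAdd_zero, map_one]
  rw [h1, _root_.one_mul] at hy'
  have e := GaPts.gaFn_injective (show Red.gaFn y = Red.gaFn x from hy')
  rw [e, eq_mul_inv_iff_mul_eq] at hy
  simpa only [Category.assoc] using hy

/-- The rank one cell in the coordinates of the big cell. -/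
def emb {n m : ℕ} (k₀ : Fin n) (l₀ : Fin m) : (Red.Ga S ⊗ D.T) ⊗ Red.Ga S ⟶ cellSpace D n m :=
  lift (tup n fun k => if k = k₀ then fst _ _ ≫ fst _ _ else 1)
    (lift (fst _ _ ≫ snd _ _) (tup m fun l => if l = l₀ then snd _ _ else 1))

section

variable {R : Type u} [CommRing R] {j : Spec (CommRingCat.of R) ⟶ S} {C : Type u} [CommRing C] [Algebra R C]
  {n m : ℕ} {eneg : Fin n → D.idx} {epos : Fin m → D.idx}

theorem pt_emb [DecidableEq D.idx] (hn : Function.Injective eneg) (hm : Function.Injective epos) (k₀ : Fin n) (l₀ : Fin m)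
    (t : Sp j C ⟶ (Red.Ga S ⊗ D.T) ⊗ Red.Ga S) {χ : Multiplicative D.M →* C}
    (hχ : tpt D j χ = t ≫ fst _ _ ≫ snd _ _) :
    t ≫ emb k₀ l₀ =
      lift (tup n fun k => gp j ((Pi.single (eneg k₀) (gv (t ≫ fst _ _ ≫ fst _ _)) : D.idx → C) (eneg k)))
        (lift (tpt D j χ) (tup m fun l => gp j ((Pi.single (epos l₀) (gv (t ≫ snd _ _)) : D.idx → C) (epos l)))) := by
  apply CartesianMonoidalCategory.hom_ext
  · rw [Category.assoc, emb, lift_fst, lift_fst]
    refine pow_ext fun k => ?_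
    rw [Category.assoc, tup_proj, tup_proj]
    by_cases h : k = k₀
    · subst h; rw [if_pos rfl, Pi.single_eq_same, gp_gv]
    · rw [if_neg h, Pi.single_eq_of_ne (fun e => h (hn e)), gp_zero, MonObj.comp_one]
  · rw [Category.assoc, emb, lift_snd, lift_snd]
    apply CartesianMonoidalCategory.hom_ext
    · rw [Category.assoc, lift_fst, lift_fst, hχ]
    · rw [Category.assoc, lift_snd, lift_snd]
      refine pow_ext fun k => ?_
      rw [Category.assoc, tup_proj, tup_proj]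
      by_cases h : k = l₀
      · subst h; rw [if_pos rfl, Pi.single_eq_same, gp_gv]
      · rw [if_neg h, Pi.single_eq_of_ne (fun e => h (hm e)), gp_zero, MonObj.comp_one]

end

theorem emb_cellMap {n m : ℕ} {eneg : Fin n → D.idx} {epos : Fin m → D.idx}
    (hn : Function.Injective eneg) (hm : Function.Injective epos) (k₀ : Fin n) (l₀ : Fin m) :
    emb k₀ l₀ ≫ RedSub.cellMap D eneg epos = RankOne.cell D.i (D.u (epos l₀)) (D.u (eneg k₀)) := by
  classical
  haveI : ∀ c, IsMonHom (D.u c) := fun c => (D.rootHom c).1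
  refine hom_ext_open fun R _ j _ C _ _ t => ?_
  obtain ⟨χ, hχ⟩ := exists_tpt j (t ≫ fst _ _ ≫ snd _ _)
  have ht : t = lift (lift (t ≫ fst _ _ ≫ fst _ _) (tpt D j χ)) (t ≫ snd _ _) := by
    rw [hχ]
    apply CartesianMonoidalCategory.hom_ext
    · apply CartesianMonoidalCategory.hom_ext <;> simp
    · simp
  rw [← Category.assoc, pt_emb hn hm k₀ l₀ t hχ, lift_cellMap,
    rootProd_single j (x := Pi.single (eneg k₀) (gv (t ≫ fst _ _ ≫ fst _ _))) (List.nodup_ofFn.2 hn)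
      (List.mem_ofFn.2 ⟨k₀, rfl⟩) fun d hd => Pi.single_eq_of_ne hd _,
    rootProd_single j (x := Pi.single (epos l₀) (gv (t ≫ snd _ _))) (List.nodup_ofFn.2 hm)
      (List.mem_ofFn.2 ⟨l₀, rfl⟩) fun d hd => Pi.single_eq_of_ne hd _,
    Pi.single_eq_same, Pi.single_eq_same, gp_gv, gp_gv]
  conv_rhs => rw [ht, lift_cell]
  simp only [Category.assoc, _root_.mul_assoc]

/-- A point of the big cell fixed by the kernel of a root lies in the rank one cell. -/
theorem eq_emb_of_fixed (b : D.P.Base) {a : D.idx} (ha : a ∈ RedSub.posRoots D.P b) {n m : ℕ}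
    {eneg : Fin n → D.idx} {epos : Fin m → D.idx}
    (hneg : RedSub.Enumerates (RedSub.negRoots D.P b) eneg) (hpos : RedSub.Enumerates (RedSub.posRoots D.P b) epos)
    {k₀ : Fin n} (hk₀ : eneg k₀ = D.P.reflectionPerm a a) {l₀ : Fin m} (hl₀ : epos l₀ = a) {r : ℕ}
    (φ : D.M →+ (Fin r → ℤ)) (g₀ : (Fin r → ℤ) →+ ℤ) {f : D.M →+ ℤ} (hg₀ : ∀ x, g₀ (φ x) = f x)
    (hfd : ∀ d, d ≠ a → D.P.root d ≠ -D.P.root a → f (D.P.root d) ≠ 0)
    (hroot : D.P.root (D.P.reflectionPerm a a) = -D.P.root a) {W : Over S} (g : W ⟶ G) (w : W ⟶ cellSpace D n m)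
    (hw : w ≫ RedSub.cellMap D eneg epos = g)
    (hcomm : ∀ (X : Over S) (x : X ⟶ W) (h : X ⟶ Red.DS S (Fin r → ℤ)),
      (x ≫ g) * (h ≫ Red.DSmap S φ ≫ D.split.inv.hom.hom ≫ D.i) =
        (h ≫ Red.DSmap S φ ≫ D.split.inv.hom.hom ≫ D.i) * (x ≫ g)) :
    w = lift (lift (w ≫ fst _ _ ≫ proj _ n k₀) (w ≫ snd _ _ ≫ fst _ _))
      (w ≫ snd _ _ ≫ snd _ _ ≫ proj _ m l₀) ≫ emb k₀ l₀ := by
  classical
  let T' := Red.DS S (Fin r → ℤ)
  let e : T' ⟶ G := Red.DSmap S φ ≫ D.split.inv.hom.hom ≫ D.i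
  let a' : W ⟶ (Red.Ga S ⊗ D.T) ⊗ Red.Ga S :=
    lift (lift (w ≫ fst _ _ ≫ proj _ n k₀) (w ≫ snd _ _ ≫ fst _ _)) (w ≫ snd _ _ ≫ snd _ _ ≫ proj _ m l₀)
  show w = a' ≫ emb k₀ l₀
  refine hom_ext_open fun R _ j _ C _ _ t => ?_
  obtain ⟨lam, hl⟩ := hasLam b
  haveI := isMonHom_i (D := D)
  haveI : ∀ c, IsMonHom (D.u c) := fun c => (D.rootHom c).1
  obtain ⟨χ, y, x, ew, et⟩ := exists_coords (t ≫ w) hneg.1 hpos.1
  rw [Category.assoc, hw] at ew
  let L := LaurentPolynomial C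
  let U : Lˣ := ⟨LaurentPolynomial.T 1, LaurentPolynomial.T (-1),
    by rw [← LaurentPolynomial.T_add, add_neg_cancel, LaurentPolynomial.T_zero],
    by rw [← LaurentPolynomial.T_add, neg_add_cancel, LaurentPolynomial.T_zero]⟩
  have hU : ∀ k : ℤ, ((U ^ k : Lˣ) : L) = LaurentPolynomial.T k := fun k => by
    induction k using Int.induction_on with
    | zero => simp [LaurentPolynomial.T_zero]
    | succ i ih => rw [zpow_add_one, Units.val_mul, ih, ← LaurentPolynomial.T_add]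
    | pred i ih =>
      rw [zpow_sub_one, Units.val_mul, ih, sub_eq_add_neg, LaurentPolynomial.T_add]; rfl
  let τ : Multiplicative (Fin r → ℤ) →* L :=
    { toFun := fun v => ((U ^ g₀ v.toAdd : Lˣ) : L)
      map_one' := by simp
      map_mul' := fun v v' => by simp [toAdd_mul, map_add, zpow_add] }
  let s₀ : Sp j L ⟶ T' := DSPts.pt ((Scheme.ΓSpecIso (CommRingCat.of L)).inv.hom.toMonoidHom.comp τ)
  have hs₀ : s₀ ≫ e = tpt D j (chiLam C f) ≫ D.i := by
    rw [show e = Red.DSmap S φ ≫ D.split.inv.hom.hom ≫ D.i from rfl, tpt, ← Category.assoc s₀,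
      ← Category.assoc _ D.split.inv.hom.hom D.i]
    congr 2
    refine DSPts.char_injective (MonoidHom.ext fun v => ?_)
    rw [SplitSub.char_DSmap, DSPts.char_pt, DSPts.char_pt]
    refine congrArg (fun p => (Scheme.ΓSpecIso (CommRingCat.of L)).inv p) ?_
    show ((U ^ g₀ (φ v.toAdd) : Lˣ) : L) = LaurentPolynomial.T (f v.toAdd)
    rw [hU, hg₀]
  have hfix : conjT D j (chiLam C f) (mor j (lauC (R := R)) ≫ (t ≫ g)) =
      mor j (lauC (R := R)) ≫ (t ≫ g) := by
    have h1 := hcomm _ (mor j (lauC (R := R)) ≫ t) s₀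
    rw [hs₀] at h1
    simp only [Category.assoc] at h1
    rw [conjT, mul_inv_eq_iff_eq_mul, h1]
  rw [ew] at hfix
  simp only [MonObj.comp_mul, mor_rootProd, ← Category.assoc, mor_tpt] at hfix
  rw [conjT_cell] at hfix
  obtain ⟨-, hy, hx⟩ := cell_injective D.rootHom (mu := lam) (nodup_list hneg) (nodup_list hpos)
    (fun c hc => (hl c).2 ((mem_list_iff hneg c).1 hc)) (fun c hc => (hl c).1 ((mem_list_iff hpos c).1 hc)) hfix
  have hzero : ∀ d, d ≠ a → d ≠ D.P.reflectionPerm a a →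
      (d ∈ List.ofFn eneg → y d = 0) ∧ (d ∈ List.ofFn epos → x d = 0) := fun d h1 h2 =>
    have hne := hfd d h1 fun h => h2 (D.P.root.injective (h.trans hroot.symm))
    ⟨fun hd => fixed_coeff f d _ hne (hy d hd), fun hd => fixed_coeff f d _ hne (hx d hd)⟩
  have hχ : tpt D j χ = (t ≫ a') ≫ fst _ _ ≫ snd _ _ := by
    have h := congrArg (· ≫ snd _ _ ≫ fst _ _) et
    simp only [lift_snd_assoc, lift_fst] at h
    rw [← h]
    simp only [a', Category.assoc, lift_fst_assoc, lift_snd]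
  rw [← Category.assoc t a', pt_emb hneg.1 hpos.1 k₀ l₀ (t ≫ a') hχ, et]
  have hyk : gv ((t ≫ a') ≫ fst _ _ ≫ fst _ _) = y (eneg k₀) := by
    have h := congrArg (· ≫ fst _ _ ≫ proj _ n k₀) et
    simp only [lift_fst_assoc, tup_proj] at h
    rw [← gv_gp (j := j) (y (eneg k₀)), ← h]
    simp only [a', Category.assoc, lift_fst_assoc, lift_fst]
  have hxl : gv ((t ≫ a') ≫ snd _ _) = x (epos l₀) := by
    have h := congrArg (· ≫ snd _ _ ≫ snd _ _ ≫ proj _ m l₀) et
    simp only [lift_snd_assoc, tup_proj] at h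
    rw [← gv_gp (j := j) (x (epos l₀)), ← h]
    simp only [a', Category.assoc, lift_snd]
  rw [hyk, hxl]
  congr 2
  · refine funext fun k => congrArg (gp j) ?_
    by_cases hk : eneg k = eneg k₀
    · rw [hk, Pi.single_eq_same]
    · rw [Pi.single_eq_of_ne hk]
      refine (hzero _ (fun he => ?_) (hk₀ ▸ hk)).1 (List.mem_ofFn.2 ⟨k, rfl⟩)
      have h1 := (hl (eneg k)).2 (hneg.2 ▸ Set.mem_range_self k)
      have h2 := (hl a).1 ha
      rw [he] at h1
      omega
  · refine congrArg (tup m) (funext fun k => congrArg (gp j) ?_)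
    by_cases hk : epos k = epos l₀
    · rw [hk, Pi.single_eq_same]
    · rw [Pi.single_eq_of_ne hk]
      refine (hzero _ (hl₀ ▸ hk) fun he => ?_).2 (List.mem_ofFn.2 ⟨k, rfl⟩)
      have h1 := (hl (epos k)).1 (hpos.2 ▸ Set.mem_range_self k)
      have h2 := (hl a).1 ha
      rw [he, hroot, map_neg] at h1
      omega

/-- A group fixed by the kernel of a root meets the big cell in an open rank one cell. -/
theorem isOpenImmersion_of_fixed (b : D.P.Base) {a : D.idx} (ha : a ∈ RedSub.posRoots D.P b) {n m : ℕ}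
    {eneg : Fin n → D.idx} {epos : Fin m → D.idx}
    (hneg : RedSub.Enumerates (RedSub.negRoots D.P b) eneg) (hpos : RedSub.Enumerates (RedSub.posRoots D.P b) epos)
    {k₀ : Fin n} (hk₀ : eneg k₀ = D.P.reflectionPerm a a) {l₀ : Fin m} (hl₀ : epos l₀ = a) {r : ℕ}
    (φ : D.M →+ (Fin r → ℤ)) (g₀ : (Fin r → ℤ) →+ ℤ) {f : D.M →+ ℤ} (hg₀ : ∀ x, g₀ (φ x) = f x)
    (hfd : ∀ d, d ≠ a → D.P.root d ≠ -D.P.root a → f (D.P.root d) ≠ 0)
    (hroot : D.P.root (D.P.reflectionPerm a a) = -D.P.root a) {Z : Over S} (z : Z ⟶ G) [Mono z]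
    (hcomm : ∀ (X : Over S) (x : X ⟶ Z) (h : X ⟶ Red.DS S (Fin r → ℤ)),
      (x ≫ z) * (h ≫ Red.DSmap S φ ≫ D.split.inv.hom.hom ≫ D.i) =
        (h ≫ Red.DSmap S φ ≫ D.split.inv.hom.hom ≫ D.i) * (x ≫ z))
    (cl : (Red.Ga S ⊗ D.T) ⊗ Red.Ga S ⟶ Z) (hcz : cl ≫ z = emb k₀ l₀ ≫ RedSub.cellMap D eneg epos) :
    IsOpenImmersion cl.left := by
  classical
  haveI := isOpenImmersion_cellMap hneg hpos
  haveI : Mono (RedSub.cellMap D eneg epos) := Over.mono_of_mono_left _
  let O : Z.left.Opens := z.left ⁻¹ᵁ (RedSub.cellMap D eneg epos).left.opensRange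
  let W : Over S := Over.mk (O.ι ≫ Z.hom)
  let o : W ⟶ Z := Over.homMk O.ι
  haveI : IsOpenImmersion o.left := inferInstanceAs (IsOpenImmersion O.ι)
  haveI : Mono o := Over.mono_of_mono_left _
  have hr : Set.range (o ≫ z).left ⊆ Set.range (RedSub.cellMap D eneg epos).left := by
    rintro _ ⟨p, rfl⟩
    exact p.2
  obtain ⟨w, hw⟩ := Groth.L14.CellHom.exists_lift_of_mem (RedSub.cellMap D eneg epos) (o ≫ z) hr
  have hwa := eq_emb_of_fixed b ha hneg hpos hk₀ hl₀ φ g₀ hg₀ hfd hroot (o ≫ z) w hw fun X x h => by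
    have := hcomm X (x ≫ o) h
    rwa [Category.assoc] at this
  obtain ⟨a', ha'⟩ : ∃ a', w = a' ≫ emb k₀ l₀ := ⟨_, hwa⟩
  have hao : a' ≫ cl = o := (cancel_mono z).1 (by
    rw [Category.assoc, hcz, ← Category.assoc, ← ha', hw])
  haveI : Mono cl := ⟨fun {X} p q hpq => by
    have h1 := congrArg (· ≫ z) hpq
    simp only [Category.assoc, hcz] at h1
    rw [← Category.assoc, ← Category.assoc, cancel_mono] at h1
    have e1 := congrArg (· ≫ fst _ _ ≫ proj _ n k₀) h1
    have e2 := congrArg (· ≫ snd _ _ ≫ fst _ _) h1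
    have e3 := congrArg (· ≫ snd _ _ ≫ snd _ _ ≫ proj _ m l₀) h1
    simp only [emb, Category.assoc, lift_fst_assoc, lift_snd_assoc, lift_fst, tup_proj, if_true] at e1 e2 e3
    apply CartesianMonoidalCategory.hom_ext
    · apply CartesianMonoidalCategory.hom_ext <;> simp only [Category.assoc] <;> assumption
    · exact e3⟩
  have hrange : Set.range cl.left ⊆ Set.range o.left := by
    rintro _ ⟨p, rfl⟩
    have hmem : cl.left p ∈ O := by
      show z.left (cl.left p) ∈ Set.range (RedSub.cellMap D eneg epos).left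
      rw [← Scheme.Hom.comp_apply, ← Over.comp_left, hcz, Over.comp_left, Scheme.Hom.comp_apply]
      exact Set.mem_range_self _
    exact ⟨⟨_, hmem⟩, rfl⟩
  obtain ⟨b', hb⟩ := Groth.L14.CellHom.exists_lift_of_mem o cl hrange
  haveI : IsIso b' := ⟨a', (cancel_mono cl).1 (by
      rw [Category.assoc, hao, hb, Category.id_comp]),
    (cancel_mono o).1 (by rw [Category.assoc, hb, hao, Category.id_comp])⟩
  haveI : IsIso b'.left := inferInstanceAs (IsIso ((Over.forget S).map b'))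
  rw [← hb, Over.comp_left]
  infer_instance

/-- The centraliser of the connected kernel of a positive root is reductive with the rank one cell open. -/
theorem exists_pair (b : D.P.Base) {a : D.idx} (ha : a ∈ RedSub.posRoots D.P b) :
    ∃ (Z : Over S) (_ : GrpObj Z) (z : Z ⟶ G) (_ : IsMonHom z) (_ : Mono z) (iZ : D.T ⟶ Z) (_ : IsMonHom iZ)
      (pp : Red.Ga S ⟶ Z) (_ : IsMonHom pp) (pm : Red.Ga S ⟶ Z) (_ : IsMonHom pm),
      iZ ≫ z = D.i ∧ pp ≫ z = D.u a ∧ pm ≫ z = D.u (D.P.reflectionPerm a a) ∧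
        Red.IsReductive Z ∧ IsOpenImmersion (RankOne.cell iZ pp pm).left := by
  classical
  haveI := isMonHom_i (D := D)
  haveI : ∀ c, IsMonHom (D.u c) := fun c => (D.rootHom c).1
  haveI : Finite D.idx := Finite.of_fintype _
  have hroot : D.P.root (D.P.reflectionPerm a a) = -D.P.root a := root_neg' D.P a
  obtain ⟨n, eneg, hneg⟩ := exists_enum (D := D) (RedSub.negRoots D.P b)
  obtain ⟨m, epos, hpos⟩ := exists_enum (D := D) (RedSub.posRoots D.P b)
  haveI := isOpenImmersion_cellMap hneg hpos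
  obtain ⟨k₀, hk₀⟩ : ∃ k, eneg k = D.P.reflectionPerm a a := by
    have h : D.P.reflectionPerm a a ∈ RedSub.negRoots D.P b := by
      show -D.P.root _ ∈ AddSubmonoid.closure _
      rw [hroot, neg_neg]; exact ha
    rwa [← hneg.2] at h
  obtain ⟨l₀, hl₀⟩ : ∃ l, epos l = a := by rwa [← hpos.2] at ha
  obtain ⟨lam, hl⟩ := hasLam b
  obtain ⟨f, hfp, hfc, hfd⟩ := exists_fun_root b a
  obtain ⟨r, φ, g₀, hφ, hker, hg₀⟩ : ∃ (r : ℕ) (φ : D.M →+ (Fin r → ℤ)) (a : (Fin r → ℤ) →+ ℤ),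
      Function.Surjective φ ∧ (∀ x, f x = 0 → φ x = 0) ∧ ∀ x, a (φ x) = f x := by
    rcases hfp with h | h
    · exact ⟨0, 0, 0, fun v => ⟨0, Subsingleton.elim _ _⟩, fun x _ => rfl, fun x => by simp [h]⟩
    · exact ⟨1, AddMonoidHom.mk' (fun x _ => f x) (fun a c => funext fun _ => map_add f a c),
        Pi.evalAddMonoidHom (fun _ => ℤ) 0,
        fun v => (h (v 0)).imp fun x hx => funext fun i => by rw [Subsingleton.elim i 0]; exact hx,
        fun x hx => funext fun _ => hx, fun x => rfl⟩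
  let T' := Red.DS S (Fin r → ℤ)
  let e : T' ⟶ G := Red.DSmap S φ ≫ D.split.inv.hom.hom ≫ D.i
  haveI : IsMonHom e := inferInstanceAs (IsMonHom (Red.DSmap S φ ≫ D.split.inv.hom.hom ≫ D.i))
  haveI := D.maximalTorus.2.1
  haveI : Mono e := by
    haveI : Mono (Red.DSmap S φ) := SplitSub.mono_DSmap φ hφ
    haveI : IsIso D.split.inv.hom.hom := ⟨D.split.hom.hom.hom, split_inv_hom, split_hom_inv⟩
    exact mono_comp _ _
  obtain ⟨Z, _, z, hz, -, hZred⟩ :=
    Groth.L08.TorusWeights.exists_centralizer_reductive D.reductive e (Groth.L01.Unip.isTorus_DS S r)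
  haveI := hz.1
  haveI := hz.2.1
  have hfac : ∀ (c : D.idx), f (D.P.root c) = 0 → ∃ p : Red.Ga S ⟶ Z, p ≫ z = D.u c := fun c hc =>
    (hz.2.2 _ _).2 fun X x h => root_conj_trivial c φ (hker _ hc) h x
  obtain ⟨iZ, hiZ⟩ : ∃ i' : D.T ⟶ Z, i' ≫ z = D.i := (hz.2.2 _ _).2 fun X x h => by
    show (x ≫ D.i) * (h ≫ Red.DSmap S φ ≫ D.split.inv.hom.hom ≫ D.i) = _
    have hcomm : x * (h ≫ Red.DSmap S φ ≫ D.split.inv.hom.hom) = (h ≫ Red.DSmap S φ ≫ D.split.inv.hom.hom) * x :=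
      Central.mul_comm_of_multTypeFT (Locus.isMultTypeFT_of_isTorus D.maximalTorus.2.2.1) _ _
    simpa only [MonObj.mul_comp, Category.assoc] using congrArg (· ≫ D.i) hcomm
  obtain ⟨pp, hpp⟩ := hfac a hfc
  obtain ⟨pm, hpm⟩ := hfac (D.P.reflectionPerm a a) (by rw [hroot, map_neg, hfc, neg_zero])
  have hmon : ∀ {W : Over S} [GrpObj W] (p : W ⟶ Z) (q : W ⟶ G) [IsMonHom q], p ≫ z = q → IsMonHom p := by
    intro W _ p q _ hp
    exact Groth.L25.Bridge.isMonHom_of_mul p fun Y x y => (cancel_mono z).1 (by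
      rw [Category.assoc, hp, MonObj.mul_comp, MonObj.mul_comp, Category.assoc, Category.assoc, hp])
  have h₁ : IsMonHom iZ := hmon iZ D.i hiZ
  have h₂ : IsMonHom pp := hmon pp (D.u a) hpp
  have h₃ : IsMonHom pm := hmon pm (D.u (D.P.reflectionPerm a a)) hpm
  refine ⟨Z, _, z, hz.1, hz.2.1, iZ, h₁, pp, h₂, pm, h₃, hiZ, hpp, hpm, hZred, ?_⟩
  have hcz : RankOne.cell iZ pp pm ≫ z = emb k₀ l₀ ≫ RedSub.cellMap D eneg epos := by
    rw [emb_cellMap hneg.1 hpos.1, hk₀, hl₀]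
    conv_lhs => rw [← Category.id_comp (RankOne.cell iZ pp pm)]
    conv_rhs => rw [← Category.id_comp (RankOne.cell D.i (D.u a) (D.u _))]
    rw [show 𝟙 ((Red.Ga S ⊗ D.T) ⊗ Red.Ga S) = lift (lift (fst _ _ ≫ fst _ _) (fst _ _ ≫ snd _ _)) (snd _ _) by
        rw [← comp_lift, lift_fst_snd, Category.comp_id, lift_fst_snd], lift_cell, lift_cell]
    simp only [MonObj.mul_comp, Category.assoc, hiZ, hpp, hpm]
  exact isOpenImmersion_of_fixed b ha hneg hpos hk₀ hl₀ φ g₀ hg₀ hfd hroot z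
    (fun X x h => (hz.2.2 Z z).1 ⟨𝟙 Z, Category.id_comp z⟩ X x h) _ hcz

end Groth.L14.Coroot
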