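import Groth.Agent.L14.Chev.Dual
import Groth.Agent.L14.Chev.Cell.Closed
import Groth.Agent.L25.SplitSub.LocalChar
import Groth.Agent.L25.SplitSub.Kill
import Groth.Agent.L14.Chev.Cell.Isolate

/-!
Homomorphisms from the multiplicative group to a split torus agree when they do on geometric points.
-/

set_option autoImplicit false
universe u

open CategoryTheory CategoryTheory.Limits AlgebraicGeometry MonoidalCategory CartesianMonoidalCategory MonObj
open Groth.L14.RankOne Groth.L25 Groth.L14.Chart Groth.L14.Chev.Cell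

set_option backward.isDefEq.respectTransparency.types false
set_option linter.style.haveILetI false
set_option linter.unusedSectionVars false

noncomputable section

namespace Groth.L14.Coroot

variable {S : Scheme.{u}}

theorem gm_hom_eq {M : Type} [AddCommGroup M] [Monoid.FG (Multiplicative M)]
    (u v : Red.Gm S ⟶ Red.DS S M) [IsMonHom u] [IsMonHom v]
    (h : ∀ (R : Type u) [CommRing R] (j : Spec (CommRingCat.of R) ⟶ S) [IsOpenImmersion j] (K : Type u) [Field K]
      [IsAlgClosed K] [Algebra R K] (z : Kˣ), up j z ≫ u = up j z ≫ v) : u = v := by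
  have hloc : ∀ s : S, ∃ U : S.Opens, s ∈ U ∧ ∀ (T : Over S), (∀ y, T.hom y ∈ U) →
      ∀ t : T ⟶ Red.Gm S, t ≫ u = t ≫ v := by
    intro s
    obtain ⟨U, hsU, φ, hφ⟩ := SplitSub.exists_local_DSmap (N := ℤ) u s
    obtain ⟨U', hsU', ψ, hψ⟩ := SplitSub.exists_local_DSmap (N := ℤ) v s
    obtain ⟨R, _, j, _, hj, hq⟩ := exists_chart (S := S) s
    haveI := hj
    let K := AlgebraicClosure (S.residueField s)
    have hs : ∀ y, (Sp j K).hom y = s := fun y => by
      show (qK j K) y = s
      rw [hq]
      show (Spec.map _ ≫ S.fromSpecResidueField s) y = s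
      rw [Scheme.Hom.comp_apply]
      exact Scheme.fromSpecResidueField_apply _ _
    have hφψ : φ = ψ := by
      refine AddMonoidHom.ext fun m => ?_
      by_contra hne
      obtain ⟨z, hz⟩ := exists_unit_zpow_ne_one (K := K) (sub_ne_zero.2 hne)
      have e := h R j K z
      rw [hφ (Sp j K) (fun y => by rw [hs]; exact hsU), hψ (Sp j K) (fun y => by rw [hs]; exact hsU')] at e
      have e' := congrArg (fun t => DSPts.char t (Multiplicative.ofAdd m)) e
      simp only [SplitSub.char_DSmap] at e'
      change DSPts.char (up j z) (Multiplicative.ofAdd (φ m)) = DSPts.char (up j z) (Multiplicative.ofAdd (ψ m)) at e'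
      rw [Chev.char_up, Chev.char_up] at e'
      have e'' : (z ^ φ m : Kˣ) = z ^ ψ m :=
        Units.ext ((ConcreteCategory.bijective_of_isIso (Scheme.ΓSpecIso (CommRingCat.of K)).inv).1 e')
      refine hz ?_
      rw [← Units.val_one]
      congr 1
      rw [zpow_sub, e'', mul_inv_cancel]
    exact ⟨U ⊓ U', ⟨hsU, hsU'⟩, fun T hT t => by
      rw [hφ T (fun y => (hT y).1), hψ T (fun y => (hT y).2), hφψ]⟩
  choose U hU hUe using hloc
  let P := (Red.Gm S).hom
  let Y : (Red.Gm S).left → Over S := fun x => Over.mk ((P ⁻¹ᵁ U (P x)).ι ≫ P)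
  let c : ∀ x, Y x ⟶ Red.Gm S := fun x => Over.homMk (P ⁻¹ᵁ U (P x)).ι rfl
  haveI : ∀ x, Flat (c x).left := fun x => inferInstanceAs (Flat (P ⁻¹ᵁ U (P x)).ι)
  exact SplitSub.eq_of_cover c (fun x => ⟨x, ⟨x, hU _⟩, rfl⟩) fun x => hUe (P x) (Y x) (fun y => y.2) (c x)

end Groth.L14.Coroot
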