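import Groth.Agent.L14.Coroot.Cent
import Groth.Agent.L14.Coroot.Rigid
import Groth.Agent.L14.RankOne.NonComm
import Groth.Agent.L14.Chev.Cell.Reflect
import Groth.Agent.S4131

/-!
The commutation constant and the coroot of a root of a split reductive group.
-/

set_option autoImplicit false
universe u

open CategoryTheory CategoryTheory.Limits AlgebraicGeometry MonoidalCategory CartesianMonoidalCategory MonObj
open Groth.L14.RankOne Groth.L25 Groth.L14.Chart Groth.L14.Chev.Cell

set_option backward.isDefEq.respectTransparency.types false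
set_option linter.style.haveILetI false
set_option linter.unusedSectionVars false
set_option maxHeartbeats 1000000

noncomputable section

namespace Groth.L14.Coroot

variable {S : Scheme.{u}} {G : Over S} [GrpObj G]

/-- The coroot of a root as a homomorphism to the torus. -/
abbrev coav (D : Red.SplitRed G) (a : D.idx) : Red.Gm S ⟶ D.T :=
  Red.DSmap S (D.P.coroot a).toAddMonoidHom ≫ D.split.inv.hom.hom

variable {D : Red.SplitRed G}

theorem coroot_root_self (a : D.idx) : D.P.coroot a (D.P.root a) = 2 := by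
  have h : D.P.coroot a (D.P.root a) = D.P.pairing a a := by
    rw [← D.P.root_coroot_eq_pairing, D.pairing_eq]
    rfl
  rw [h, D.P.pairing_same]

theorem gmFn_chi_char {X : Over S} (t : X ⟶ D.T) (m : D.M) :
    Red.gmFn (t ≫ D.split.hom.hom.hom ≫ Red.chi S m) =
      DSPts.char (t ≫ D.split.hom.hom.hom) (Multiplicative.ofAdd m) := by
  rw [gmFn_eq_char, Red.chi, ← Category.assoc, SplitSub.char_DSmap]
  show DSPts.char (t ≫ D.split.hom.hom.hom) (Multiplicative.ofAdd ((zmultiplesHom D.M m) (1 : ℤ))) = _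
  rw [zmultiplesHom_apply, one_zsmul]

theorem gmFn_root_neg {X : Over S} (t : X ⟶ D.T) (a : D.idx) :
    Red.gmFn (t ≫ D.split.hom.hom.hom ≫ Red.chi S (D.P.root (D.P.reflectionPerm a a))) *
      Red.gmFn (t ≫ D.split.hom.hom.hom ≫ Red.chi S (D.P.root a)) = 1 := by
  rw [gmFn_chi_char, gmFn_chi_char, root_neg' D.P a, ← map_mul, ← ofAdd_add, neg_add_cancel, ofAdd_zero, map_one]

theorem root_ne_one_geom (a : D.idx) (s : S) :
    (Over.pullback (Red.geomPt s)).map (D.split.hom.hom.hom ≫ Red.chi S (D.P.root a)) ≠ 1 := by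
  intro h
  obtain ⟨R, _, j, _, hj, hq⟩ := exists_chart (S := S) s
  haveI := hj
  let K := AlgebraicClosure (S.residueField s)
  obtain ⟨w, hw⟩ := Groth.L14.Chev.Cell.exists_unit_zpow_ne_one (K := K) (k := 1) one_ne_zero
  obtain ⟨χ, hχ⟩ := exists_char_eq (D := D) a (w := ((w : Kˣ) : K)) w.ne_zero
  rw [← hq] at h
  have hK := ptBC_comp j K ((ptBC j K).symm (tpt D j χ)) (D.split.hom.hom.hom ≫ Red.chi S (D.P.root a))
  rw [h, Equiv.apply_symm_apply, MonObj.comp_one, show ptBC j K 1 = 1 from map_one (ptHom j K (Red.Gm S))] at hK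
  have hg := congrArg Red.gmFn hK
  rw [gmFn_tpt_chi, hχ, show Red.gmFn (1 : Sp j K ⟶ Red.Gm S) = 1 by rw [GmPts.gmFn_one]] at hg
  exact hw (by rw [zpow_one]; exact (ConcreteCategory.bijective_of_isIso (Scheme.ΓSpecIso (CommRingCat.of K)).inv).1 (hg.symm.trans (map_one _).symm))

/-- A homomorphism on units whose values square to powers. -/
theorem units_hom_eq {K : Type*} [Field K] [IsAlgClosed K] (g : Kˣ →* Kˣ) {k : ℤ}
    (h : ∀ z, g z ^ 2 = z ^ (2 * k)) (z : Kˣ) : g z = z ^ k := by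
  obtain ⟨x, hx⟩ := IsAlgClosed.exists_pow_nat_eq (z : K) (n := 2) (by omega)
  have hx0 : x ≠ 0 := fun e => z.ne_zero (by rw [← hx, e, zero_pow (by omega)])
  have e : z = Units.mk0 x hx0 ^ 2 := Units.ext (by rw [Units.val_pow_eq_pow_val, Units.val_mk0, hx])
  rw [e, map_pow, h, ← zpow_natCast, ← zpow_mul]
  rfl

/-- The functional equation forces the characters of the coroot. -/
theorem coroot_of_fe {K : Type u} [Field K] [IsAlgClosed K] (a : D.idx) (τ : Kˣ → Multiplicative D.M →* K)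
    (g : D.M → Kˣ →* Kˣ) (gadd : ∀ m m' w, g (m + m') w = g m w * g m' w)
    (galpha : ∀ w, g (D.P.root a) w = w ^ (2 : ℤ))
    (hg : ∀ m w, ((g m w : Kˣ) : K) = τ w (Multiplicative.ofAdd m)) (lm : Kˣ)
    (hfe : ∀ w : Kˣ, ∃ w' : Kˣ, (w' : K) = 1 + (lm : K) * ((w : K) - 1) ∧
      τ w' * Chev.reflChar a (τ w) = 1) : ∀ m w, g m w = w ^ D.P.coroot a m := by
  classical
  have hlm1 : lm = 1 := by
    by_contra hne
    have h0 : (lm : K) ≠ 1 := fun h => hne (Units.ext h)
    have h1 : 1 - 1 / (lm : K) ≠ 0 := by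
      intro h
      rw [sub_eq_zero, one_div, eq_comm, inv_eq_one] at h
      exact h0 h
    obtain ⟨w', hw', -⟩ := hfe (Units.mk0 _ h1)
    refine w'.ne_zero ?_
    rw [hw', Units.val_mk0]
    field_simp
    ring
  have hker : ∀ m, D.P.coroot a m = 0 → ∀ w, g m w ^ 2 = 1 := by
    intro m hm w
    obtain ⟨w', hw', hσ⟩ := hfe w
    rw [hlm1, Units.val_one, _root_.one_mul, add_sub_cancel] at hw'
    obtain rfl : w' = w := Units.ext hw'
    refine Units.ext ?_
    have h := DFunLike.congr_fun hσ (Multiplicative.ofAdd m)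
    have hr : Chev.reflChar a (τ w') (Multiplicative.ofAdd m) = τ w' (Multiplicative.ofAdd m) := by
      show τ w' (Multiplicative.ofAdd (D.P.reflection a m)) = _
      rw [RootPairing.reflection_apply, show D.P.coroot' a m = D.P.coroot a m by
        rw [RootPairing.coroot', D.pairing_eq]; rfl, hm, zero_smul, sub_zero]
    rw [MonoidHom.mul_apply, hr] at h
    rw [pow_two, Units.val_mul, hg]
    exact h
  have hmain : ∀ m w, g m w = w ^ D.P.coroot a m := by
    intro m
    refine units_hom_eq (g m) fun w => ?_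
    let k := D.P.coroot a m
    have hm : D.P.coroot a (m + m - k • D.P.root a) = 0 := by
      rw [map_sub, map_add, map_smul, coroot_root_self, smul_eq_mul]; ring
    have gsq := units_hom_eq (g (m + m - k • D.P.root a)) (k := 0) (fun w => by
      rw [hker _ hm, mul_zero, zpow_zero]) w
    have gk : g (k • D.P.root a) w = w ^ (2 * k) := by
      have : ∀ i : ℤ, g (i • D.P.root a) w = g (D.P.root a) w ^ i := fun i => by
        have hval : ∀ m, g m w = MonoidHom.toHomUnits (τ w) (Multiplicative.ofAdd m) := fun m => Units.ext (hg m w)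
        rw [hval, hval, ofAdd_zsmul, map_zpow]
      rw [this, galpha, ← zpow_mul]
    have h4 : g (m + m) w = g (m + m - k • D.P.root a) w * g (k • D.P.root a) w := by
      rw [← gadd, sub_add_cancel]
    rw [pow_two, ← gadd, h4, gsq, gk, zpow_zero, _root_.one_mul]
  exact hmain

/-- The commutation constant and the formula with the coroot, for a positive root. -/
theorem exists_formula_pos (b : D.P.Base) {a : D.idx} (ha : a ∈ RedSub.posRoots D.P b) :
    ∃ c : 𝟙_ (Over S) ⟶ Red.Gm S, ∀ (X : Over S) (x y : X ⟶ Red.Ga S),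
      IsUnit (1 + Red.gmFn (toUnit X ≫ c) * Red.gaFn x * Red.gaFn y) →
        ∃ (x' y' : X ⟶ Red.Ga S) (z : X ⟶ Red.Gm S),
          Red.gmFn z = 1 + Red.gmFn (toUnit X ≫ c) * Red.gaFn x * Red.gaFn y ∧
          Red.gaFn x' * Red.gmFn z = Red.gaFn x ∧ Red.gaFn y' * Red.gmFn z = Red.gaFn y ∧
          (x ≫ D.u a) * (y ≫ D.u (D.P.reflectionPerm a a)) =
            (y' ≫ D.u (D.P.reflectionPerm a a)) * (z ≫ coav D a ≫ D.i) * (x' ≫ D.u a) := by
  classical
  haveI := isMonHom_i (D := D)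
  haveI : ∀ c, IsMonHom (D.u c) := fun c => (D.rootHom c).1
  haveI := D.maximalTorus.2.1
  set a' := D.P.reflectionPerm a a with ha'
  obtain ⟨Z, _, z, hzm, hzmono, iZ, hiZm, pp, hppm, pm, hpmm, hiZ, hpp, hpm, hZred, hcell⟩ := exists_pair b ha
  haveI := hzm; haveI := hzmono; haveI := hiZm; haveI := hppm; haveI := hpmm
  haveI : Mono iZ := ⟨fun p q e => (cancel_mono D.i).1 (by
    rw [← hiZ, ← Category.assoc, e, Category.assoc])⟩
  have hmonoU : ∀ c, Mono (D.u c) := fun c => by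
    haveI := (D.rootHom c).2.1
    exact Over.mono_of_mono_left _
  haveI : Mono pp := ⟨fun p q e => (hmonoU a).right_cancellation p q (by
    rw [← hpp, ← Category.assoc, e, Category.assoc])⟩
  haveI : Mono pm := ⟨fun p q e => (hmonoU a').right_cancellation p q (by
    rw [← hpm, ← Category.assoc, e, Category.assoc])⟩
  let α : D.T ⟶ Red.Gm S := D.split.hom.hom.hom ≫ Red.chi S (D.P.root a)
  haveI : IsMonHom (Red.chi S (D.P.root a)) := Groth.L25.TorusTorsion.isMonHom_DSmap S _
  haveI : IsMonHom α := inferInstanceAs (IsMonHom (D.split.hom.hom.hom ≫ Red.chi S (D.P.root a)))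
  have hT := D.maximalTorus.2.2.1
  have hppc : ∀ (X : Over S) (t : X ⟶ D.T) (x : X ⟶ Red.Ga S), ∃ x' : X ⟶ Red.Ga S,
      x' ≫ pp = (t ≫ iZ) * (x ≫ pp) * (t ≫ iZ)⁻¹ ∧ Red.gaFn x' = Red.gmFn (t ≫ α) * Red.gaFn x := fun X t x => by
    obtain ⟨y, hy, hy'⟩ := (D.rootHom a).2.2 X t x
    exact ⟨y, (cancel_mono z).1 (by simpa only [MonObj.mul_comp, GrpObj.inv_comp, Category.assoc, hpp, hiZ] using hy), hy'⟩
  have hpmc : ∀ (X : Over S) (t : X ⟶ D.T) (x : X ⟶ Red.Ga S), ∃ x' : X ⟶ Red.Ga S,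
      x' ≫ pm = (t ≫ iZ) * (x ≫ pm) * (t ≫ iZ)⁻¹ ∧ Red.gaFn x' * Red.gmFn (t ≫ α) = Red.gaFn x := fun X t x => by
    obtain ⟨y, hy, hy'⟩ := (D.rootHom a').2.2 X t x
    refine ⟨y, (cancel_mono z).1 (by simpa only [MonObj.mul_comp, GrpObj.inv_comp, Category.assoc, hpm, hiZ] using hy), ?_⟩
    rw [hy', _root_.mul_assoc, _root_.mul_comm (Red.gaFn x), ← _root_.mul_assoc, gmFn_root_neg, _root_.one_mul]
  obtain ⟨⟨c, av⟩, ⟨hav, h2, hfor⟩, -⟩ := Groth.Agent.S4131.result S Z D.T iZ hT α (root_ne_one_geom a) pp pm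
    hppc hpmc hcell fun s => by
      have h := Groth.L14.RankOne.not_commute (α := α) hZred hcell hppc hpmc s
      push Not at h
      exact h
  haveI : IsMonHom av := hav
  suffices hcor : av = coav D a by
    refine ⟨c, fun X x y hu => ?_⟩
    obtain ⟨x', y', w, hw, hx', hy', e⟩ := (hfor X x y).2 hu
    refine ⟨x', y', w, hw, hx', hy', ?_⟩
    have e' := congrArg (· ≫ z) e
    simp only [MonObj.mul_comp, Category.assoc, hpp, hpm, hiZ] at e'
    rw [← hcor]
    exact e'
  haveI : IsMonHom (Red.DSmap S (D.P.coroot a).toAddMonoidHom) := Groth.L25.TorusTorsion.isMonHom_DSmap S _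
  haveI : IsMonHom (coav D a) :=
    inferInstanceAs (IsMonHom (Red.DSmap S (D.P.coroot a).toAddMonoidHom ≫ D.split.inv.hom.hom))
  haveI : IsIso D.split.hom.hom.hom := ⟨D.split.inv.hom.hom, split_hom_inv, split_inv_hom⟩
  haveI : Monoid.FG (Multiplicative D.M) := Groth.L25.SplitSub.monoidFG_of_addGroupFG (Module.Finite.iff_addGroup_fg.1 inferInstance)
  rw [← cancel_mono D.split.hom.hom.hom]
  refine gm_hom_eq _ _ fun R _ j _ K _ _ _ v => ?_
  rw [← Category.assoc, ← Category.assoc]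
  congr 1
  -- the characters of the coroot of the commutation formula
  choose τ hτ using fun w : Kˣ => exists_tpt (D := D) j (up j w ≫ av)
  have hτmul : ∀ w w', τ (w * w') = τ w * τ w' := fun w w' =>
    tpt_injective (D := D) j (by rw [tpt_mul, hτ, hτ, hτ, up_mul, MonObj.mul_comp])
  have hτ1 : τ 1 = 1 := tpt_injective (D := D) j (by rw [hτ, up_one, MonObj.one_comp, tpt_one])
  let g : D.M → Kˣ →* Kˣ := fun m => MonoidHom.toHomUnits
    { toFun := fun w => τ w (Multiplicative.ofAdd m)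
      map_one' := by rw [hτ1]; rfl
      map_mul' := fun w w' => by rw [hτmul]; rfl }
  have gadd : ∀ m m' w, g (m + m') w = g m w * g m' w := fun m m' w => Units.ext (by
    show τ w (Multiplicative.ofAdd (m + m')) = τ w (Multiplicative.ofAdd m) * τ w (Multiplicative.ofAdd m')
    rw [ofAdd_add, map_mul])
  have galpha : ∀ w, g (D.P.root a) w = w ^ (2 : ℤ) := fun w => by
    refine Units.ext ?_
    show τ w (Multiplicative.ofAdd (D.P.root a)) = _
    have h := congrArg (fun q => Red.gmFn (up j w ≫ q)) h2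
    simp only at h
    rw [← Category.assoc, ← hτ, MonObj.comp_pow, Category.comp_id, show α = _ from rfl, gmFn_tpt_chi,
      pow_two, GmPts.gmFn_mul, gmFn_up, ← map_mul] at h
    rw [(ConcreteCategory.bijective_of_isIso (Scheme.ΓSpecIso (CommRingCat.of K)).inv).1 h]
    rw [zpow_two, Units.val_mul]
  -- the functional equation
  obtain ⟨cK, hcK⟩ : ∃ q : Kˣ, ((q : Kˣ) : K) = evalPt (𝟙 (Sp j K)) (Red.gmFn (toUnit (Sp j K) ≫ c)) :=
    ⟨uv (toUnit (Sp j K) ≫ c), by rw [evalPt_gmFn, Category.id_comp]⟩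
  have hcF : Red.gmFn (toUnit (Sp j K) ≫ c) = (Scheme.ΓSpecIso (CommRingCat.of K)).inv ((cK : Kˣ) : K) := by
    rw [← gmFn_up]
    congr 1
    rw [← up_uv (j := j) (toUnit (Sp j K) ≫ c)]
    congr 1
    refine Units.ext ?_
    rw [hcK, evalPt_gmFn, Category.id_comp]
  have hpts : ∀ (p r : K) (w : Kˣ), ((w : Kˣ) : K) = 1 + (cK : K) * p * r →
      (gp j p ≫ pp) * (gp j r ≫ pm) = (gp j (r / (w : K)) ≫ pm) * (up j w ≫ av ≫ iZ) * (gp j (p / (w : K)) ≫ pp) := by
    intro p r w hw
    have hunit : IsUnit (1 + Red.gmFn (toUnit (Sp j K) ≫ c) * Red.gaFn (gp j p) * Red.gaFn (gp j r)) := by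
      rw [hcF, gaFn_gp, gaFn_gp, ← map_mul, ← map_mul, ← map_one (Scheme.ΓSpecIso (CommRingCat.of K)).inv.hom,
        ← map_add, ← hw]
      exact w.isUnit.map _
    obtain ⟨x', y', q, hq, hx', hy', e⟩ := (hfor _ _ _).2 hunit
    have hqw : q = up j w := GmPts.gmFn_injective (by
      show Red.gmFn q = Red.gmFn (up j w)
      rw [hq, gmFn_up, hw, hcF, gaFn_gp, gaFn_gp, map_add, map_mul, map_mul, map_one])
    subst hqw
    have hdiv : ∀ (x₀ : Sp j K ⟶ Red.Ga S) (p₀ : K), Red.gaFn x₀ * Red.gmFn (up j w) = Red.gaFn (gp j p₀) →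
        x₀ = gp j (p₀ / (w : K)) := fun x₀ p₀ h => by
      rw [← gp_gv x₀]
      congr 1
      rw [eq_div_iff w.ne_zero]
      have h' := congrArg (fun t => (Scheme.ΓSpecIso (CommRingCat.of K)).hom t) h
      simp only [map_mul, gmFn_up, gaFn_gp] at h'
      rw [gv]
      simpa only [Iso.inv_hom_id_apply] using h'
    rw [hdiv x' p hx', hdiv y' r hy'] at e
    exact e
  obtain ⟨ν₀, hν₀⟩ := D.refl a
  have hν : Chev.ActsBy ν₀ a := actsBy_of_refl hν₀
  obtain ⟨s₁, hs₁⟩ := exists_conj_scale (j := j) b hν a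
  obtain ⟨s₂, hs₂⟩ := exists_conj_scale (j := j) b hν a'
  rw [← ha'] at hs₁
  rw [ha', D.P.reflectionPerm_self, ← ha'] at hs₂
  let lm : Kˣ := Units.map (algebraMap R K).toMonoidHom (s₁ * s₂)
  let V := toUnit (Sp j K) ≫ ν₀
  have hfe : ∀ w : Kˣ, ∃ w' : Kˣ, (w' : K) = 1 + (lm : K) * ((w : K) - 1) ∧
      τ w' * Chev.reflChar a (τ w) = 1 := by
    intro w
    let p : K := ((w : K) - 1) / (cK : K)
    have hw : ((w : Kˣ) : K) = 1 + (cK : K) * p * 1 := by
      simp only [p]; field_simp; ring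
    have e := congrArg (· ≫ z) (hpts p 1 w hw)
    simp only [MonObj.mul_comp, Category.assoc, hpp, hpm, hiZ] at e
    rw [← Category.assoc (up j w), ← hτ, ← ha'] at e
    have e1 : (gp j (algebraMap R K (s₁ : R) * p) ≫ D.u a') * (gp j (algebraMap R K (s₂ : R) * 1) ≫ D.u a) =
        (gp j (algebraMap R K (s₂ : R) * (1 / (w : K))) ≫ D.u a) * (tpt D j (Chev.reflChar a (τ w)) ≫ D.i) *
          (gp j (algebraMap R K (s₁ : R) * (p / (w : K))) ≫ D.u a') := by
      rw [← hs₁ K, ← hs₂ K, ← hs₁ K, ← hs₂ K, ← hν R j K (τ w)]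
      calc _ = (toUnit (Sp j K) ≫ ν₀) * ((gp j p ≫ D.u a) * (gp j (1 : K) ≫ D.u a')) *
            (toUnit (Sp j K) ≫ ν₀)⁻¹ := by group
        _ = _ := by rw [e]; group
    -- inverted, inside the centraliser
    let σ := Chev.reflChar a (τ w)
    have e2 : (gp j (-(algebraMap R K (s₂ : R) * 1)) ≫ pp) * (gp j (-(algebraMap R K (s₁ : R) * p)) ≫ pm) =
        (gp j (-(algebraMap R K (s₁ : R) * (p / (w : K)))) ≫ pm) * ((tpt D j σ)⁻¹ ≫ iZ) *
          (gp j (-(algebraMap R K (s₂ : R) * (1 / (w : K)))) ≫ pp) := by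
      refine (cancel_mono z).1 ?_
      simp only [MonObj.mul_comp, Category.assoc, hpp, hpm, hiZ]
      have e1' := congrArg (fun q => q⁻¹) e1
      simp only [mul_inv_rev] at e1'
      simp only [gp_neg, GrpObj.inv_comp]
      rw [e1', _root_.mul_assoc]
    obtain ⟨w', hw'⟩ : ∃ w' : Kˣ, (w' : K) = 1 + (lm : K) * ((w : K) - 1) := by
      have hmem := (hfor (Sp j K) (gp j (-(algebraMap R K (s₂ : R) * 1)))
        (gp j (-(algebraMap R K (s₁ : R) * p)))).1.1 ⟨_, (lift_cell iZ pp pm _ _ _).trans e2.symm⟩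
      rw [hcF, gaFn_gp, gaFn_gp, ← map_mul, ← map_mul, ← map_one (Scheme.ΓSpecIso (CommRingCat.of K)).inv.hom,
        ← map_add] at hmem
      have h3 := (hmem.map (Scheme.ΓSpecIso (CommRingCat.of K)).hom.hom)
      rw [Iso.inv_hom_id_apply] at h3
      refine ⟨h3.unit, ?_⟩
      rw [IsUnit.unit_spec]
      have hlm : (lm : K) = algebraMap R K (s₁ : R) * algebraMap R K (s₂ : R) := by
        simp [lm]
      rw [hlm, hw]
      ring
    refine ⟨w', hw', ?_⟩
    have e3 := hpts (-(algebraMap R K (s₂ : R) * 1)) (-(algebraMap R K (s₁ : R) * p)) w' (by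
      rw [hw', hw, show (lm : K) = algebraMap R K (s₁ : R) * algebraMap R K (s₂ : R) by simp [lm]]
      ring)
    rw [← Category.assoc (up j w') av iZ] at e3
    have e4 := (decomp_unique (hcell := hcell) (e2.symm.trans e3)).2.1
    rw [← hτ] at e4
    refine tpt_injective (D := D) j ?_
    rw [tpt_mul, tpt_one, ← e4]
    exact inv_mul_cancel _
  have hmain := coroot_of_fe a τ g gadd galpha (fun m w => rfl) lm hfe
  rw [show up j v ≫ coav D a = tpt D j (Chev.cochi a v) from
    Chev.up_avc j (fun c => coav D c) (fun _ => rfl) a v, ← hτ v]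
  congr 1
  refine MonoidHom.ext fun m => ?_
  show τ v m = _
  have := congrArg Units.val (hmain m.toAdd v)
  exact this.trans (by simp [Chev.cochi])

end Groth.L14.Coroot
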