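import Groth.Agent.L14.Coroot.Kernel

/-!
In the simply connected case the torus points are generated by points of simple root groups and their opposites.
-/

set_option autoImplicit false
universe u

open CategoryTheory CategoryTheory.Limits AlgebraicGeometry MonoidalCategory CartesianMonoidalCategory MonObj
open Groth.L14.RankOne Groth.L25 Groth.L14.Chart Groth.L14.Chev.Cell

set_option backward.isDefEq.respectTransparency.types false
set_option linter.style.haveILetI false
set_option linter.unusedSectionVars false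
set_option maxHeartbeats 1000000

noncomputable section

namespace Groth.L14.Coroot

variable {S : Scheme.{u}} {G : Over S} [GrpObj G] (D : Red.SplitRed G) (b : D.P.Base)

/-- Points of the coroot of a positive root lie in every group of points containing the two root groups. -/
theorem coav_mem {a : D.idx} (ha : a ∈ RedSub.posRoots D.P b) {X : Over S} (H : Subgroup (X ⟶ G))
    (hH : ∀ x : X ⟶ Red.Ga S, x ≫ D.u a ∈ H ∧ x ≫ D.u (D.P.reflectionPerm a a) ∈ H) (z : X ⟶ Red.Gm S) :
    z ≫ coav D a ≫ D.i ∈ H := by
  obtain ⟨c, hc⟩ := exists_formula_pos b ha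
  let u := GmPts.unitOfPt (toUnit X ≫ c)
  have hu : Red.gmFn (toUnit X ≫ c) = (u : Γ(X.left, ⊤)) := rfl
  let x : X ⟶ Red.Ga S := GaPts.ptOfElt ((Red.gmFn z - 1) * (↑u⁻¹ : Γ(X.left, ⊤)))
  let y : X ⟶ Red.Ga S := GaPts.ptOfElt 1
  have he : 1 + Red.gmFn (toUnit X ≫ c) * Red.gaFn x * Red.gaFn y = Red.gmFn z := by
    simp only [x, y, GaPts.gaFn_ptOfElt, hu, _root_.mul_one]
    linear_combination (Red.gmFn z - 1) * u.mul_inv
  obtain ⟨x', y', z', hz', -, -, h⟩ := hc X x y (by rw [he]; exact (GmPts.unitOfPt z).isUnit)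
  obtain rfl : z' = z := GmPts.gmFn_injective (hz'.trans he)
  rw [mul_assoc (y' ≫ D.u (D.P.reflectionPerm a a))] at h
  have h2 := H.mul_mem (H.mul_mem (H.inv_mem (hH y').2) (H.mul_mem (hH x).1 (hH y).2)) (H.inv_mem (hH x').1)
  rwa [h, inv_mul_cancel_left, mul_inv_cancel_right] at h2

/-- If the coroots span the dual lattice, the simple coroots split the character lattice. -/
theorem exists_leftInv (hsc : Submodule.span ℤ (Set.range D.P.coroot) = ⊤) :
    ∃ s : (↥b.support → ℤ) →+ D.M, ∀ m : D.M, s (fun a => D.P.coroot a m) = m := by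
  classical
  have hspan : Submodule.span ℤ (Set.range fun a : ↥b.support => D.P.coroot a) = ⊤ := by
    rw [eq_top_iff, ← hsc, Submodule.span_le]
    rintro _ ⟨i, rfl⟩
    have hr : Set.range (fun a : ↥b.support => D.P.coroot a) = D.P.coroot '' (b.support : Set D.idx) := by
      ext f; simp
    rw [hr]
    have hle : AddSubmonoid.closure (D.P.coroot '' (b.support : Set D.idx)) ≤
        (Submodule.span ℤ (D.P.coroot '' (b.support : Set D.idx))).toAddSubmonoid :=
      AddSubmonoid.closure_le.2 Submodule.subset_span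
    rcases b.coroot_mem_or_neg_mem i with h | h
    · exact hle h
    · exact (Submodule.neg_mem_iff _).1 (hle h)
  let e := Module.Free.chooseBasis ℤ D.M
  have hex : ∀ k, ∃ c : ↥b.support → ℤ, ∑ a, c a • D.P.coroot a = e.coord k := fun k =>
    (Submodule.mem_span_range_iff_exists_fun ℤ).1 (hspan.symm ▸ Submodule.mem_top)
  choose c hc using hex
  refine ⟨AddMonoidHom.mk' (fun v => ∑ k, (∑ a, c k a * v a) • e k) (fun v w => by
    simp only [Pi.add_apply, mul_add, Finset.sum_add_distrib, add_smul]), fun m => ?_⟩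
  show ∑ k, (∑ a, c k a * D.P.coroot a m) • e k = m
  conv_rhs => rw [← e.sum_repr m]
  refine Finset.sum_congr rfl fun k _ => congrArg (· • e k) ?_
  have h := LinearMap.congr_fun (hc k) m
  rw [LinearMap.sum_apply] at h
  simpa [Module.Basis.coord_apply] using h

/-- In the simply connected case a group containing the simple root groups and their opposites contains the torus. -/
theorem torus_mem (hsc : Submodule.span ℤ (Set.range D.P.coroot) = ⊤) {X : Over S} (H : Subgroup (X ⟶ G))
    (hH : ∀ a ∈ b.support, ∀ x : X ⟶ Red.Ga S, x ≫ D.u a ∈ H ∧ x ≫ D.u (D.P.reflectionPerm a a) ∈ H)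
    (t : X ⟶ D.T) : t ≫ D.i ∈ H := by
  classical
  haveI := isMonHom_i (D := D)
  haveI : Finite D.idx := Finite.of_fintype _
  obtain ⟨s, hs⟩ := exists_leftInv D b hsc
  obtain ⟨t', ht'⟩ : ∃ t', t' = (t ≫ D.split.hom.hom.hom) ≫ Red.DSmap S s := ⟨_, rfl⟩
  let ψs : Finset ↥b.support → (D.M →+ (↥b.support → ℤ)) := fun F =>
    ∑ a ∈ F, (AddMonoidHom.single (fun _ : ↥b.support => ℤ) a).comp (D.P.coroot a).toAddMonoidHom
  have hind : ∀ F : Finset ↥b.support, (t' ≫ Red.DSmap S (ψs F) ≫ D.split.inv.hom.hom) ≫ D.i ∈ H := by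
    intro F
    induction F using Finset.induction_on with
    | empty =>
      rw [show t' ≫ Red.DSmap S (ψs ∅) ≫ D.split.inv.hom.hom = 1 by
        rw [← Category.assoc, show t' ≫ Red.DSmap S (ψs ∅) = 1 from DSPts.char_injective (MonoidHom.ext fun m => by
          rw [SplitSub.char_DSmap, DSPts.char_one]
          show DSPts.char t' (Multiplicative.ofAdd ((ψs ∅) m.toAdd)) = 1
          simp [ψs]), MonObj.one_comp], MonObj.one_comp]
      exact H.one_mem
    | insert a F ha ih =>
      have e : t' ≫ Red.DSmap S (ψs (insert a F)) = ((t' ≫ Red.DSmap S (AddMonoidHom.single (fun _ : ↥b.support => ℤ) a)) ≫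
          Red.DSmap S (D.P.coroot a).toAddMonoidHom) * (t' ≫ Red.DSmap S (ψs F)) := by
        refine DSPts.char_injective (MonoidHom.ext fun m => ?_)
        rw [DSPts.char_mul, MonoidHom.mul_apply, SplitSub.char_DSmap, SplitSub.char_DSmap, SplitSub.char_DSmap,
          SplitSub.char_DSmap]
        show DSPts.char t' (Multiplicative.ofAdd ((ψs (insert a F)) m.toAdd)) = _
        simp only [ψs, Finset.sum_insert ha, AddMonoidHom.add_apply, ofAdd_add, map_mul]
        rfl
      rw [← Category.assoc, e, MonObj.mul_comp, MonObj.mul_comp]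
      refine H.mul_mem ?_ (by simpa only [Category.assoc] using ih)
      have hc := coav_mem D b (simple_pos D.P b a.2) H (hH a a.2)
        (t' ≫ Red.DSmap S (AddMonoidHom.single (fun _ : ↥b.support => ℤ) a))
      simp only [coav, Category.assoc] at hc ⊢
      exact hc
  have hψ : t' ≫ Red.DSmap S (ψs Finset.univ) = t ≫ D.split.hom.hom.hom := by
    refine DSPts.char_injective (MonoidHom.ext fun m => ?_)
    rw [SplitSub.char_DSmap, ht', SplitSub.char_DSmap]
    refine congrArg (fun v => DSPts.char (t ≫ D.split.hom.hom.hom) (Multiplicative.ofAdd v)) ?_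
    show s (ψs Finset.univ m.toAdd) = m.toAdd
    rw [show ψs Finset.univ m.toAdd = fun a : ↥b.support => D.P.coroot a m.toAdd from funext fun a => by
      simp [ψs, Finset.sum_apply, Pi.single_apply], hs]
  have h := hind Finset.univ
  rw [← Category.assoc t', hψ] at h
  simp only [Category.assoc] at h
  rwa [← Category.assoc D.split.hom.hom.hom, split_hom_inv, Category.id_comp] at h

end Groth.L14.Coroot
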