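import Groth.Agent.L14.Coroot.Mult
import Groth.Agent.L14.TypeR.CellHom
import Groth.Agent.L25.SplitSub.Map

/-!
The homomorphism of a split reductive group to the quotient of the torus by the coroot torus.
-/

set_option autoImplicit false
universe u

open CategoryTheory CategoryTheory.Limits AlgebraicGeometry MonoidalCategory CartesianMonoidalCategory MonObj
open Groth.L14.RankOne Groth.L25 Groth.L14.Chart Groth.L14.Chev.Cell

set_option backward.isDefEq.respectTransparency.types false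
set_option linter.style.haveILetI false
set_option linter.unusedSectionVars false
set_option maxHeartbeats 1000000

noncomputable section

namespace Groth.L14.Coroot

variable {S : Scheme.{u}} {G : Over S} [GrpObj G] (D : Red.SplitRed G) (b : D.P.Base) {n m : ℕ}
  {eneg : Fin n → D.idx} {epos : Fin m → D.idx} (N : AddSubgroup D.M)

/-- The torus component modulo the coroot torus. -/
def fN (n m : ℕ) : cellSpace D n m ⟶ Red.DS S ↥N :=
  snd _ _ ≫ fst _ _ ≫ D.split.hom.hom.hom ≫ Red.DSmap S N.subtype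

/-- The point of the big cell with given torus component and trivial root components. -/
def torPt (n m : ℕ) : D.T ⟶ cellSpace D n m :=
  lift (tup n fun _ => 1) (lift (𝟙 D.T) (tup m fun _ => 1))

theorem torPt_cellMap (eneg : Fin n → D.idx) (epos : Fin m → D.idx) :
    torPt D n m ≫ RedSub.cellMap D eneg epos = D.i := by
  haveI : ∀ c, IsMonHom (D.u c) := fun c => (D.rootHom c).1
  rw [comp_cellMap]
  simp only [torPt, lift_fst, lift_snd_assoc, lift_snd, tup_proj, MonObj.one_comp, List.ofFn_const,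
    List.prod_replicate, one_pow, _root_.one_mul, _root_.mul_one, Category.id_comp]

theorem torPt_fN (n m : ℕ) : torPt D n m ≫ fN D N n m = D.split.hom.hom.hom ≫ Red.DSmap S N.subtype := by
  simp only [torPt, fN, lift_snd_assoc, lift_fst_assoc, Category.id_comp]

theorem pt_fN {R : Type u} [CommRing R] {j : Spec (CommRingCat.of R) ⟶ S} {C : Type u} [CommRing C] [Algebra R C]
    (t : Sp j C ⟶ cellSpace D n m) {χ : Multiplicative D.M →* C} (hχ : tpt D j χ = t ≫ snd _ _ ≫ fst _ _)
    (ν : Multiplicative ↥N) : DSPts.char (t ≫ fN D N n m) ν =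
      (Scheme.ΓSpecIso (CommRingCat.of C)).inv (χ (Multiplicative.ofAdd (ν.toAdd : D.M))) := by
  rw [show t ≫ fN D N n m = ((t ≫ snd _ _ ≫ fst _ _) ≫ D.split.hom.hom.hom) ≫ Red.DSmap S N.subtype by
      simp only [fN, Category.assoc],
    ← hχ, tpt_hom, SplitSub.char_DSmap, DSPts.char_pt]
  rfl

/-- Multiplicativity on affine points. -/
theorem fN_mul_aux (hneg : RedSub.Enumerates (RedSub.negRoots D.P b) eneg)
    (hpos : RedSub.Enumerates (RedSub.posRoots D.P b) epos)
    (hN : ∀ x : D.M, x ∈ N → ∀ c : D.idx, D.P.coroot c x = 0) {R : Type u} [CommRing R]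
    {j : Spec (CommRingCat.of R) ⟶ S} [IsOpenImmersion j] {C : Type u} [CommRing C] [Algebra R C]
    (x y z : Sp j C ⟶ cellSpace D n m)
    (h : z ≫ RedSub.cellMap D eneg epos = (x ≫ RedSub.cellMap D eneg epos) * (y ≫ RedSub.cellMap D eneg epos)) :
    z ≫ fN D N n m = (x ≫ fN D N n m) * (y ≫ fN D N n m) := by
  obtain ⟨χ₁, y₁, x₁, e₁, t₁⟩ := exists_coords x hneg.1 hpos.1
  obtain ⟨χ₂, y₂, x₂, e₂, t₂⟩ := exists_coords y hneg.1 hpos.1
  obtain ⟨χ₃, y₃, x₃, e₃, t₃⟩ := exists_coords z hneg.1 hpos.1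
  rw [e₁, e₂, e₃] at h
  have htor : ∀ (w : Sp j C ⟶ cellSpace D n m) (χ : Multiplicative D.M →* C) (a : Fin n → (Sp j C ⟶ Red.Ga S))
      (a' : Fin m → (Sp j C ⟶ Red.Ga S)), w = lift (tup n a) (lift (tpt D j χ) (tup m a')) →
      tpt D j χ = w ≫ snd _ _ ≫ fst _ _ := fun w χ a a' e => by rw [e, lift_snd_assoc, lift_fst]
  refine DSPts.char_injective (MonoidHom.ext fun ν => ?_)
  rw [DSPts.char_mul, MonoidHom.mul_apply, pt_fN D N z (htor _ _ _ _ t₃) ν,
    pt_fN D N x (htor _ _ _ _ t₁) ν, pt_fN D N y (htor _ _ _ _ t₂) ν, ← map_mul,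
    char_mul b hneg hpos h _ (hN _ ν.toAdd.2)]

/-- Products of points of the big cell multiply the torus components modulo the coroot torus. -/
theorem fN_mul (hneg : RedSub.Enumerates (RedSub.negRoots D.P b) eneg)
    (hpos : RedSub.Enumerates (RedSub.posRoots D.P b) epos)
    (hN : ∀ x : D.M, x ∈ N → ∀ c : D.idx, D.P.coroot c x = 0) (X : Over S) (x y z : X ⟶ cellSpace D n m)
    (h : z ≫ RedSub.cellMap D eneg epos = (x ≫ RedSub.cellMap D eneg epos) * (y ≫ RedSub.cellMap D eneg epos)) :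
    z ≫ fN D N n m = (x ≫ fN D N n m) * (y ≫ fN D N n m) := by
  refine hom_ext_open fun R _ j _ C _ _ t => ?_
  have h' : (t ≫ z) ≫ RedSub.cellMap D eneg epos =
      ((t ≫ x) ≫ RedSub.cellMap D eneg epos) * ((t ≫ y) ≫ RedSub.cellMap D eneg epos) := by
    rw [Category.assoc, h, MonObj.comp_mul, Category.assoc, Category.assoc]
  rw [MonObj.comp_mul, ← Category.assoc, ← Category.assoc, ← Category.assoc]
  exact fN_mul_aux D b N hneg hpos hN (t ≫ x) (t ≫ y) (t ≫ z) h'

theorem isSeparated_torus' : IsSeparated D.T.hom := by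
  haveI := (affSmooth_torus D).1
  infer_instance

/-- The homomorphism to the quotient by the coroot torus. -/
theorem exists_torusHom (hneg : RedSub.Enumerates (RedSub.negRoots D.P b) eneg)
    (hpos : RedSub.Enumerates (RedSub.posRoots D.P b) epos)
    (hN : ∀ x : D.M, x ∈ N → ∀ c : D.idx, D.P.coroot c x = 0) :
    ∃ F : G ⟶ Red.DS S ↥N, IsMonHom F ∧ RedSub.cellMap D eneg epos ≫ F = fN D N n m ∧
      D.i ≫ F = D.split.hom.hom.hom ≫ Red.DSmap S N.subtype := by
  haveI := reductive_affine D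
  haveI := reductive_smooth D
  haveI := isOpenImmersion_cellMap hneg hpos
  haveI := (affSmooth_cell D n m).1
  haveI := isMonHom_i (D := D)
  let o : 𝟙_ (Over S) ⟶ cellSpace D n m := (1 : 𝟙_ (Over S) ⟶ D.T) ≫ torPt D n m
  have ho : o ≫ RedSub.cellMap D eneg epos = 1 := by
    simp only [o, Category.assoc, torPt_cellMap, MonObj.one_comp]
  have hf : ∀ (X : Over S) (x y z : X ⟶ cellSpace D n m), z ≫ RedSub.cellMap D eneg epos =
      (x ≫ RedSub.cellMap D eneg epos) * (y ≫ RedSub.cellMap D eneg epos) →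
      z ≫ fN D N n m = (x ≫ fN D N n m) * (y ≫ fN D N n m) :=
    fun X x y z h => fN_mul D b N hneg hpos hN X x y z h
  have hirr := Groth.L14.TypeR.irrFib_splitRed D
  have hex := Groth.L14.CellHom.existsUnique_hom (H := Red.DS S ↥N) (RedSub.cellMap D eneg epos) o ho hirr
    (fN D N n m) hf
  obtain ⟨F, hFF, -⟩ := hex
  have hF : IsMonHom F := hFF.1
  have hFc := hFF.2
  exact ⟨F, hF, hFc, by rw [← torPt_cellMap D eneg epos, Category.assoc, hFc, torPt_fN]⟩

variable {D b N}

/-- The root product of a system of roots is killed. -/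
theorem prodMap_comp_pos {F : G ⟶ Red.DS S ↥N} [IsMonHom F]
    (hF : RedSub.cellMap D eneg epos ≫ F = fN D N n m) {X : Over S} (x : X ⟶ RedSub.pow (Red.Ga S) m) :
    (x ≫ RedSub.prodMap (Red.Ga S) m (fun k => D.u (epos k))) ≫ F = 1 := by
  haveI := isMonHom_i (D := D)
  haveI : ∀ c, IsMonHom (D.u c) := fun c => (D.rootHom c).1
  have hw : lift (tup n fun _ => (1 : X ⟶ Red.Ga S)) (lift (1 : X ⟶ D.T) x) ≫ RedSub.cellMap D eneg epos =
      x ≫ RedSub.prodMap (Red.Ga S) m (fun k => D.u (epos k)) := by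
    rw [comp_cellMap, comp_prodMap]
    simp only [lift_fst, lift_snd_assoc, lift_snd, tup_proj, MonObj.one_comp, List.ofFn_const, List.prod_replicate,
      one_pow, _root_.one_mul]
  rw [← hw, Category.assoc, hF]
  haveI : IsMonHom (Red.DSmap S N.subtype) := Groth.L25.TorusTorsion.isMonHom_DSmap S _
  simp only [fN, lift_snd_assoc, lift_fst_assoc]
  rw [MonObj.one_comp]

theorem prodMap_comp_neg {F : G ⟶ Red.DS S ↥N} [IsMonHom F]
    (hF : RedSub.cellMap D eneg epos ≫ F = fN D N n m) {X : Over S} (y : X ⟶ RedSub.pow (Red.Ga S) n) :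
    (y ≫ RedSub.prodMap (Red.Ga S) n (fun k => D.u (eneg k))) ≫ F = 1 := by
  haveI := isMonHom_i (D := D)
  haveI : ∀ c, IsMonHom (D.u c) := fun c => (D.rootHom c).1
  have hw : lift y (lift (1 : X ⟶ D.T) (tup m fun _ => (1 : X ⟶ Red.Ga S))) ≫ RedSub.cellMap D eneg epos =
      y ≫ RedSub.prodMap (Red.Ga S) n (fun k => D.u (eneg k)) := by
    rw [comp_cellMap, comp_prodMap]
    simp only [lift_fst, lift_snd_assoc, lift_snd, tup_proj, MonObj.one_comp, List.ofFn_const, List.prod_replicate,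
      one_pow, _root_.one_mul, _root_.mul_one]
  rw [← hw, Category.assoc, hF]
  haveI : IsMonHom (Red.DSmap S N.subtype) := Groth.L25.TorusTorsion.isMonHom_DSmap S _
  simp only [fN, lift_snd_assoc, lift_fst_assoc]
  rw [MonObj.one_comp]

variable (D N)

/-- The big cell map of the subgroup with the coroot torus. -/
abbrev cellPrime (eneg : Fin n → D.idx) (epos : Fin m → D.idx) :
    RedSub.pow (Red.Ga S) n ⊗ (Red.DS S (D.M ⧸ N) ⊗ RedSub.pow (Red.Ga S) m) ⟶ G :=
  (fst _ _ ≫ RedSub.prodMap (Red.Ga S) n (fun k => D.u (eneg k))) *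
    ((snd _ _ ≫ fst _ _ ≫ Red.DSmap S (QuotientAddGroup.mk' N) ≫ D.split.inv.hom.hom ≫ D.i) *
      (snd _ _ ≫ snd _ _ ≫ RedSub.prodMap (Red.Ga S) m (fun k => D.u (epos k))))

variable {D N}

theorem cellPrime_comp {F : G ⟶ Red.DS S ↥N} [IsMonHom F]
    (hF : RedSub.cellMap D eneg epos ≫ F = fN D N n m)
    (hFi : D.i ≫ F = D.split.hom.hom.hom ≫ Red.DSmap S N.subtype) {X : Over S}
    (g : X ⟶ RedSub.pow (Red.Ga S) n ⊗ (Red.DS S (D.M ⧸ N) ⊗ RedSub.pow (Red.Ga S) m)) :
    (g ≫ cellPrime D N eneg epos) ≫ F = 1 := by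
  haveI : IsMonHom (Red.DSmap S N.subtype) := Groth.L25.TorusTorsion.isMonHom_DSmap S _
  have h0 : ∀ {Y : Over S} (t : Y ⟶ Red.DS S (D.M ⧸ N)),
      t ≫ Red.DSmap S (QuotientAddGroup.mk' N) ≫ Red.DSmap S N.subtype = 1 := fun t => by
    rw [Groth.L25.TorusTorsion.DSmap_comp,
      show (QuotientAddGroup.mk' N).comp N.subtype = 0 from AddMonoidHom.ext fun x =>
        (QuotientAddGroup.eq_zero_iff (x : D.M)).2 x.2]
    refine DSPts.char_injective (MonoidHom.ext fun ν => ?_)
    rw [SplitSub.char_DSmap, DSPts.char_one]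
    show DSPts.char t (Multiplicative.ofAdd (0 : D.M ⧸ N)) = 1
    rw [ofAdd_zero, map_one]
  have hn := prodMap_comp_neg (X := X) hF (g ≫ fst _ _)
  have hp := prodMap_comp_pos (X := X) hF (g ≫ snd _ _ ≫ snd _ _)
  have ht : (((g ≫ snd _ _ ≫ fst _ _) ≫ Red.DSmap S (QuotientAddGroup.mk' N) ≫ D.split.inv.hom.hom) ≫ D.i) ≫ F = 1 := by
    rw [Category.assoc, hFi]
    simp only [Category.assoc]
    rw [← Category.assoc D.split.inv.hom.hom, split_inv_hom, Category.id_comp]
    simpa only [Category.assoc] using h0 (g ≫ snd _ _ ≫ fst _ _)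
  simp only [Category.assoc] at hn hp ht
  simp only [cellPrime, MonObj.comp_mul, MonObj.mul_comp, Category.assoc, hn, hp, ht, _root_.one_mul]

/-- A point of the big cell killed by the homomorphism comes from the smaller cell. -/
theorem exists_cellPrime {F : G ⟶ Red.DS S ↥N} (hF : RedSub.cellMap D eneg epos ≫ F = fN D N n m) {X : Over S}
    (w : X ⟶ cellSpace D n m) (hw : (w ≫ RedSub.cellMap D eneg epos) ≫ F = 1) :
    ∃ g, g ≫ cellPrime D N eneg epos = w ≫ RedSub.cellMap D eneg epos := by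
  let t : X ⟶ Red.DS S D.M := w ≫ snd _ _ ≫ fst _ _ ≫ D.split.hom.hom.hom
  have ht : ∀ ν : D.M, ν ∈ N → DSPts.char t (Multiplicative.ofAdd ν) = 1 := fun ν hν => by
    have h1 : t ≫ Red.DSmap S N.subtype = 1 := by
      rw [← hw]
      simp only [t, Category.assoc, hF]
      simp only [fN, Category.assoc]
    have h2 := congrArg (fun a => DSPts.char a (Multiplicative.ofAdd (⟨ν, hν⟩ : N))) h1
    simp only [SplitSub.char_DSmap, DSPts.char_one, MonoidHom.one_apply] at h2
    exact h2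
  let q : D.M ⧸ N →+ Additive (Γ(X.left, ⊤))ˣ :=
    QuotientAddGroup.lift N (MonoidHom.toAdditiveRight (DSPts.char t).toHomUnits)
      fun ν hν => Additive.toMul.injective (Units.ext (ht ν hν))
  let t' : X ⟶ Red.DS S (D.M ⧸ N) := DSPts.pt ((Units.coeHom _).comp (AddMonoidHom.toMultiplicativeLeft q))
  refine ⟨lift (w ≫ fst _ _) (lift t' (w ≫ snd _ _ ≫ snd _ _)), ?_⟩
  have e : t' ≫ Red.DSmap S (QuotientAddGroup.mk' N) = t := DSPts.char_injective (MonoidHom.ext fun ν => by
    rw [SplitSub.char_DSmap, DSPts.char_pt]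
    rfl)
  simp only [cellPrime, RedSub.cellMap, MonObj.comp_mul, lift_fst_assoc, lift_snd_assoc, lift_snd, Category.assoc]
  rw [← Category.assoc t', e]
  simp only [t, Category.assoc]
  rw [← Category.assoc D.split.hom.hom.hom D.split.inv.hom.hom D.i, split_hom_inv, Category.id_comp]

end Groth.L14.Coroot
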