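import Groth.Agent.L14.Chev.Cell.Space
import Groth.Agent.L25.TrivLocus

/-!
A retract of a smooth affine scheme over a base is smooth.
-/

set_option autoImplicit false
universe u

open CategoryTheory CategoryTheory.Limits AlgebraicGeometry MonoidalCategory CartesianMonoidalCategory MonObj

set_option backward.isDefEq.respectTransparency.types false
set_option linter.style.haveILetI false

noncomputable section

namespace Groth.L14.Coroot

theorem smooth_retract_affine {S X Y : Scheme.{u}} [IsAffine S] [IsAffine X] [IsAffine Y] (p : X ⟶ S) (q : Y ⟶ S)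
    [Smooth p] [LocallyOfFinitePresentation q] (i : Y ⟶ X) (r : X ⟶ Y) (hi : i ≫ p = q) (hr : r ≫ q = p)
    (hir : i ≫ r = 𝟙 Y) : Smooth q := by
  refine (HasRingHomProperty.iff_of_isAffine (P := @Smooth)).2 ?_
  have hp := (HasRingHomProperty.iff_of_isAffine (P := @Smooth) (f := p)).1 inferInstance
  have hq := (HasRingHomProperty.iff_of_isAffine (P := @LocallyOfFinitePresentation) (f := q)).1 inferInstance
  letI a1 : Algebra Γ(S, ⊤) Γ(X, ⊤) := p.appTop.hom.toAlgebra
  letI a2 : Algebra Γ(S, ⊤) Γ(Y, ⊤) := q.appTop.hom.toAlgebra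
  haveI : Algebra.Smooth Γ(S, ⊤) Γ(X, ⊤) := hp
  haveI : Algebra.FinitePresentation Γ(S, ⊤) Γ(Y, ⊤) := hq
  let π : Γ(X, ⊤) →ₐ[Γ(S, ⊤)] Γ(Y, ⊤) :=
    { i.appTop.hom with
      commutes' := fun a => by
        show i.appTop (p.appTop a) = q.appTop a
        rw [← hi, Scheme.Hom.comp_appTop]; rfl }
  let σ : Γ(Y, ⊤) →ₐ[Γ(S, ⊤)] Γ(X, ⊤) :=
    { r.appTop.hom with
      commutes' := fun a => by
        show r.appTop (q.appTop a) = p.appTop a
        rw [← hr, Scheme.Hom.comp_appTop]; rfl }
  have hπσ : ∀ y, π (σ y) = y := fun y => by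
    show i.appTop (r.appTop y) = y
    rw [← CategoryTheory.comp_apply, ← Scheme.Hom.comp_appTop, hir, Scheme.Hom.id_appTop]
    rfl
  haveI : Algebra.FormallySmooth Γ(S, ⊤) Γ(Y, ⊤) :=
    Algebra.FormallySmooth.of_split π ((Ideal.Quotient.mkₐ Γ(S, ⊤) _).comp σ) (AlgHom.ext fun y => hπσ y)
  exact ({ } : Algebra.Smooth Γ(S, ⊤) Γ(Y, ⊤))

theorem smooth_retract {S : Scheme.{u}} {X Y : Over S} [IsAffineHom X.hom] [IsAffineHom Y.hom] [Smooth X.hom]
    [LocallyOfFinitePresentation Y.hom] (i : Y ⟶ X) (r : X ⟶ Y) (hir : i ≫ r = 𝟙 Y) : Smooth Y.hom := by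
  refine IsZariskiLocalAtTarget.of_openCover (P := @Smooth) S.affineOpenCover.openCover fun k => ?_
  let f := S.affineOpenCover.openCover.f k
  haveI : IsAffine (S.affineOpenCover.openCover.X k) := inferInstanceAs (IsAffine (Spec _))
  haveI : IsAffineHom (Red.bc f X).hom := MorphismProperty.pullback_snd _ _ ‹IsAffineHom X.hom›
  haveI : IsAffineHom (Red.bc f Y).hom := MorphismProperty.pullback_snd _ _ ‹IsAffineHom Y.hom›
  haveI : Smooth (Red.bc f X).hom := MorphismProperty.pullback_snd _ _ ‹Smooth X.hom›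
  haveI : LocallyOfFinitePresentation (Red.bc f Y).hom :=
    MorphismProperty.pullback_snd _ _ ‹LocallyOfFinitePresentation Y.hom›
  haveI : IsAffine (Red.bc f X).left := isAffine_of_isAffineHom (Red.bc f X).hom
  haveI : IsAffine (Red.bc f Y).left := isAffine_of_isAffineHom (Red.bc f Y).hom
  exact smooth_retract_affine (Red.bc f X).hom (Red.bc f Y).hom ((Over.pullback f).map i).left
    ((Over.pullback f).map r).left (Over.w _) (Over.w _)
    (congrArg CommaMorphism.left (by rw [← Functor.map_comp, hir, CategoryTheory.Functor.map_id] :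
      (Over.pullback f).map i ≫ (Over.pullback f).map r = 𝟙 _))

end Groth.L14.Coroot
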