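import Groth.Agent.L14.Coroot.Hom
import Groth.Agent.L14.Coroot.Retract
import Groth.Agent.L25.SplitSub.Image
import Groth.Agent.L14.RankOne.Centralizer

/-!
Homomorphisms to commutative groups factor through the quotient of the torus by the coroot torus.
-/

set_option autoImplicit false
universe u

open CategoryTheory CategoryTheory.Limits AlgebraicGeometry MonoidalCategory CartesianMonoidalCategory MonObj
open Groth.L14.RankOne Groth.L25 Groth.L14.Chart Groth.L14.Chev.Cell

set_option backward.isDefEq.respectTransparency.types false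
set_option linter.style.haveILetI false
set_option linter.unusedSectionVars false
set_option maxHeartbeats 1000000

noncomputable section

namespace Groth.L14.Coroot

variable {S : Scheme.{u}} {G : Over S} [GrpObj G] (D : Red.SplitRed G) (b : D.P.Base) (N : AddSubgroup D.M)

/-- The characters orthogonal to the coroots form a direct summand. -/
theorem exists_retract (hN : ∀ x : D.M, x ∈ N ↔ ∀ c : D.idx, D.P.coroot c x = 0) :
    ∃ (π : D.M →+ N) (ψ : D.M →+ (D.idx → ℤ)) (s : ψ.range →+ D.M),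
      (∀ x : N, π x = x) ∧ (∀ x a, ψ x a = D.P.coroot a x) ∧ ∀ x, x - s ⟨ψ x, x, rfl⟩ ∈ N := by
  let ψ : D.M →ₗ[ℤ] (D.idx → ℤ) := LinearMap.pi fun a => D.P.coroot a
  haveI : Finite D.idx := Finite.of_fintype _
  obtain ⟨s, hs⟩ := Module.projective_lifting_property ψ.rangeRestrict LinearMap.id ψ.surjective_rangeRestrict
  have hmem : ∀ x, x - s (ψ.rangeRestrict x) ∈ N := fun x => by
    rw [hN]
    intro c
    have h : ψ.rangeRestrict (s (ψ.rangeRestrict x)) = ψ.rangeRestrict x := LinearMap.congr_fun hs _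
    have h' := congrFun (congrArg Subtype.val h) c
    rw [map_sub, sub_eq_zero]
    exact h'.symm
  let π : D.M →+ N :=
    { toFun := fun x => ⟨x - s (ψ.rangeRestrict x), hmem x⟩
      map_zero' := Subtype.ext (by simp)
      map_add' := fun x y => Subtype.ext (by simp [map_add]; abel) }
  refine ⟨π, ψ.toAddMonoidHom, AddMonoidHom.mk' (fun v => s ⟨v.1, v.2⟩) (fun v w => by
    rw [← map_add]; rfl), fun x => Subtype.ext ?_, fun x a => rfl, hmem⟩
  have h0 : ψ.rangeRestrict (x : D.M) = 0 := Subtype.ext (funext fun c => (hN _).1 x.2 c)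
  show (x : D.M) - s (ψ.rangeRestrict x) = x
  rw [h0, map_zero, sub_zero]

variable {D N}

variable {A : Over S} [GrpObj A] (φ : G ⟶ A) [IsMonHom φ] (hA : ∀ (X : Over S) (p q : X ⟶ A), p * q = q * p)

include b hA in
/-- Root points are killed. -/
theorem root_comp_eq_one (a : D.idx) {X : Over S} (x : X ⟶ Red.Ga S) : (x ≫ D.u a) ≫ φ = 1 := by
  haveI := isMonHom_i (D := D)
  haveI : ∀ c, IsMonHom (D.u c) := fun c => (D.rootHom c).1
  refine hom_ext_open fun R _ j _ C _ _ t => ?_
  rw [MonObj.comp_one, ← Category.assoc, ← Category.assoc, ← gp_gv (j := j) (t ≫ x)]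
  generalize gv (t ≫ x) = r
  -- a faithfully flat extension with a suitable unit
  let f : Polynomial C := Polynomial.X * (Polynomial.X ^ 2 - 1)
  let C' : Type u := Localization.Away f
  have hfu : IsUnit (algebraMap (Polynomial C) C' f) := IsLocalization.Away.algebraMap_isUnit f
  rw [map_mul] at hfu
  obtain ⟨w, hw⟩ := isUnit_of_mul_isUnit_left hfu
  obtain ⟨v, hv⟩ := isUnit_of_mul_isUnit_right hfu
  rw [map_sub, map_pow, map_one] at hv
  let iC : C →ₐ[R] C' := IsScalarTower.toAlgHom R C C'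
  haveI : Flat (mor j iC).left := by
    show Flat (Spec.map (CommRingCat.ofHom iC.toRingHom))
    haveI : Module.Flat (Polynomial C) C' := IsLocalization.flat C' (Submonoid.powers f)
    haveI : Module.Flat C C' := Module.Flat.trans C (Polynomial C) C'
    exact (HasRingHomProperty.Spec_iff (P := @Flat)).2 ((RingHom.flat_algebraMap_iff (R := C) (S := C')).2 ‹_›)
  haveI : Surjective (mor j iC).left := ⟨fun p => by
    let p' : PrimeSpectrum C := p
    haveI : (Ideal.map Polynomial.C p'.asIdeal).IsPrime := Ideal.isPrime_map_C_of_isPrime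
    have hf : f ∉ Ideal.map Polynomial.C p'.asIdeal := fun h => by
      have h3 := Ideal.mem_map_C_iff.1 h 3
      simp [f, mul_sub, Polynomial.coeff_X_mul, Polynomial.coeff_X_pow, Polynomial.coeff_X] at h3
      exact p'.isPrime.ne_top ((Ideal.eq_top_iff_one _).2 h3)
    let P : PrimeSpectrum (Polynomial C) := ⟨Ideal.map Polynomial.C p'.asIdeal, ‹_›⟩
    obtain ⟨P', hP'⟩ : P ∈ Set.range (PrimeSpectrum.comap (algebraMap (Polynomial C) C')) := by
      rw [PrimeSpectrum.localization_away_comap_range C' f]; exact hf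
    refine ⟨P', PrimeSpectrum.ext ?_⟩
    show Ideal.comap iC.toRingHom P'.asIdeal = p'.asIdeal
    have hι : iC.toRingHom = (algebraMap (Polynomial C) C').comp Polynomial.C := RingHom.ext fun z =>
      IsScalarTower.algebraMap_apply C (Polynomial C) C' z
    rw [hι, ← Ideal.comap_comap]
    have hP'' : Ideal.comap (algebraMap (Polynomial C) C') P'.asIdeal = Ideal.map Polynomial.C p'.asIdeal :=
      congrArg PrimeSpectrum.asIdeal hP'
    rw [hP'']
    ext z
    rw [Ideal.mem_comap, Ideal.mem_map_C_iff]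
    refine ⟨fun h => by simpa using h 0, fun h n => ?_⟩
    rw [Polynomial.coeff_C]
    split
    · exact h
    · exact zero_mem _⟩
  haveI : Epi (mor j iC).left := Flat.epi_of_flat_of_surjective _
  haveI : Epi (mor j iC) := Over.epi_of_epi_left _
  rw [← cancel_epi (mor j iC), MonObj.comp_one, ← Category.assoc, ← Category.assoc, mor_gp]
  -- invariance under the coroot
  let r' : C' := iC r * ↑v⁻¹
  have hr' : iC r + r' = (w : C') ^ 2 * r' := by
    have h1 : ((w : C') ^ 2 - 1) * r' = iC r := by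
      rw [hw, ← hv, _root_.mul_comm, _root_.mul_assoc, Units.inv_mul, _root_.mul_one]
    linear_combination -h1
  have hc := conj_root j D.rootHom (Chev.cochi a w) a r'
  rw [Chev.cochi_root, D.P.pairing_same, show ((w ^ (2 : ℤ) : C'ˣ) : C') = (w : C') ^ 2 by
    rw [zpow_two, Units.val_mul, pow_two], ← hr', gp_add, MonObj.mul_comp] at hc
  let Φ : (Sp j C' ⟶ G) →* (Sp j C' ⟶ A) := MonoidHom.mk' (fun p => p ≫ φ) fun p q => MonObj.mul_comp p q φ
  have h2 := congrArg Φ hc
  rw [map_mul, map_mul, map_mul, map_inv, hA _ (Φ (tpt D j (Chev.cochi a w) ≫ D.i)), mul_inv_cancel_right] at h2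
  exact (right_eq_mul.1 h2)

include b hA in
/-- Coroots are killed. -/
theorem coav_comp_eq_one (a : D.idx) {X : Over S} (z : X ⟶ Red.Gm S) : ((z ≫ coav D a) ≫ D.i) ≫ φ = 1 := by
  haveI := isMonHom_i (D := D)
  haveI : ∀ c, IsMonHom (D.u c) := fun c => (D.rootHom c).1
  obtain ⟨b', hb'⟩ : ∃ b' : D.P.Base, a ∈ RedSub.posRoots D.P b' := by
    haveI : Finite D.idx := Finite.of_fintype _
    rcases pos_or_neg D.P b a with h | h
    · exact ⟨b, h⟩
    · exact ⟨negBase D.P b, by rw [posRoots_negBase]; exact h⟩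
  obtain ⟨c, hc⟩ := exists_formula_pos b' hb'
  let u := GmPts.unitOfPt (toUnit X ≫ c)
  have hu : Red.gmFn (toUnit X ≫ c) = (u : Γ(X.left, ⊤)) := rfl
  let x : X ⟶ Red.Ga S := GaPts.ptOfElt ((Red.gmFn z - 1) * (↑u⁻¹ : Γ(X.left, ⊤)))
  let y : X ⟶ Red.Ga S := GaPts.ptOfElt 1
  have he : 1 + Red.gmFn (toUnit X ≫ c) * Red.gaFn x * Red.gaFn y = Red.gmFn z := by
    simp only [x, y, GaPts.gaFn_ptOfElt, hu, _root_.mul_one]
    linear_combination (Red.gmFn z - 1) * u.mul_inv
  obtain ⟨x', y', z', hz', -, -, h⟩ := hc X x y (by rw [he]; exact (GmPts.unitOfPt z).isUnit)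
  obtain rfl : z' = z := GmPts.gmFn_injective (hz'.trans he)
  let Φ : (X ⟶ G) →* (X ⟶ A) := MonoidHom.mk' (fun p => p ≫ φ) fun p q => MonObj.mul_comp p q φ
  have hu1 : ∀ (d : D.idx) (p : X ⟶ Red.Ga S), Φ (p ≫ D.u d) = 1 := fun d p => root_comp_eq_one b φ hA d p
  have h2 := congrArg Φ h
  rw [map_mul, map_mul, map_mul, hu1, hu1, hu1, hu1, _root_.one_mul, _root_.one_mul, _root_.mul_one] at h2
  rw [Category.assoc]
  simp only [Category.assoc] at h2 ⊢
  exact (show (1 : X ⟶ A) = Φ _ from h2).symm.trans rfl |>.trans rfl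

include b hA in
/-- The torus points orthogonal to the coroots are killed. -/
theorem torus_comp_eq_one (hN : ∀ x : D.M, x ∈ N ↔ ∀ c : D.idx, D.P.coroot c x = 0) {X : Over S} (t : X ⟶ D.T)
    (ht : t ≫ D.split.hom.hom.hom ≫ Red.DSmap S N.subtype = 1) : (t ≫ D.i) ≫ φ = 1 := by
  classical
  haveI := isMonHom_i (D := D)
  obtain ⟨-, ψ, s, -, hψ, hs⟩ := exists_retract D N hN
  obtain ⟨X', c, t', hflat, hsurj, ht'⟩ :=
    SplitSub.exists_lift_incl ψ.range ((t ≫ D.split.hom.hom.hom) ≫ Red.DSmap S s)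
  haveI := hflat; haveI := hsurj
  haveI : Epi c.left := Flat.epi_of_flat_of_surjective _
  haveI : Epi c := Over.epi_of_epi_left _
  have hfac : c ≫ t ≫ D.split.hom.hom.hom = t' ≫ Red.DSmap S ψ := by
    refine DSPts.char_injective (MonoidHom.ext fun m => ?_)
    have h1 := congrArg (fun p => DSPts.char p (Multiplicative.ofAdd (⟨ψ m.toAdd, m.toAdd, rfl⟩ : ψ.range))) ht'
    simp only [SplitSub.incl, SplitSub.char_DSmap] at h1
    rw [SplitSub.char_DSmap]
    refine Eq.trans ?_ h1.symm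
    have h3 : DSPts.char (c ≫ t ≫ D.split.hom.hom.hom) (Multiplicative.ofAdd
        (⟨m.toAdd - s ⟨ψ m.toAdd, m.toAdd, rfl⟩, hs m.toAdd⟩ : N).1) = 1 := by
      have h2 := congrArg (fun p => DSPts.char (c ≫ p) (Multiplicative.ofAdd
        (⟨m.toAdd - s ⟨ψ m.toAdd, m.toAdd, rfl⟩, hs m.toAdd⟩ : N))) ht
      simp only [MonObj.comp_one, DSPts.char_one, MonoidHom.one_apply] at h2
      rw [← h2, show c ≫ t ≫ D.split.hom.hom.hom ≫ Red.DSmap S N.subtype =
        (c ≫ t ≫ D.split.hom.hom.hom) ≫ Red.DSmap S N.subtype by simp only [Category.assoc], SplitSub.char_DSmap]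
      rfl
    rw [show c ≫ (t ≫ D.split.hom.hom.hom) ≫ Red.DSmap S s = (c ≫ t ≫ D.split.hom.hom.hom) ≫ Red.DSmap S s by
      simp only [Category.assoc], SplitSub.char_DSmap]
    show _ = DSPts.char (c ≫ t ≫ D.split.hom.hom.hom) (Multiplicative.ofAdd (s ⟨ψ m.toAdd, m.toAdd, rfl⟩))
    rw [ofAdd_sub, div_eq_mul_inv] at h3
    have h4 := congrArg (· * DSPts.char (c ≫ t ≫ D.split.hom.hom.hom)
      (Multiplicative.ofAdd (s ⟨ψ m.toAdd, m.toAdd, rfl⟩))) h3
    simp only [← map_mul, inv_mul_cancel_right, _root_.one_mul] at h4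
    exact h4
  let ψs : Finset D.idx → (D.M →+ (D.idx → ℤ)) := fun F =>
    ∑ a ∈ F, (AddMonoidHom.single (fun _ : D.idx => ℤ) a).comp (D.P.coroot a).toAddMonoidHom
  have hind : ∀ F : Finset D.idx, ((t' ≫ Red.DSmap S (ψs F) ≫ D.split.inv.hom.hom) ≫ D.i) ≫ φ = 1 := by
    intro F
    induction F using Finset.induction_on with
    | empty =>
      rw [show t' ≫ Red.DSmap S (ψs ∅) ≫ D.split.inv.hom.hom = 1 by
        rw [← Category.assoc, show t' ≫ Red.DSmap S (ψs ∅) = 1 from DSPts.char_injective (MonoidHom.ext fun m => by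
          rw [SplitSub.char_DSmap, DSPts.char_one]
          show DSPts.char t' (Multiplicative.ofAdd ((ψs ∅) m.toAdd)) = 1
          simp [ψs]), MonObj.one_comp], MonObj.one_comp, MonObj.one_comp]
    | insert a F ha ih =>
      have e : t' ≫ Red.DSmap S (ψs (insert a F)) = ((t' ≫ Red.DSmap S (AddMonoidHom.single (fun _ : D.idx => ℤ) a)) ≫
          Red.DSmap S (D.P.coroot a).toAddMonoidHom) * (t' ≫ Red.DSmap S (ψs F)) := by
        refine DSPts.char_injective (MonoidHom.ext fun m => ?_)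
        rw [DSPts.char_mul, MonoidHom.mul_apply, SplitSub.char_DSmap, SplitSub.char_DSmap, SplitSub.char_DSmap,
          SplitSub.char_DSmap]
        show DSPts.char t' (Multiplicative.ofAdd ((ψs (insert a F)) m.toAdd)) = _
        simp only [ψs, Finset.sum_insert ha, AddMonoidHom.add_apply, ofAdd_add, map_mul]
        rfl
      rw [← Category.assoc, e, MonObj.mul_comp, MonObj.mul_comp, MonObj.mul_comp]
      have hc := coav_comp_eq_one b φ hA a (t' ≫ Red.DSmap S (AddMonoidHom.single (fun _ : D.idx => ℤ) a))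
      simp only [coav, Category.assoc] at hc ih ⊢
      rw [hc, ih, _root_.one_mul]
  have hψs : ψs Finset.univ = ψ := AddMonoidHom.ext fun m => funext fun a => by
    simp [ψs, hψ, Finset.sum_apply, Pi.single_apply]
  have h := hind Finset.univ
  rw [hψs, ← Category.assoc t', ← hfac] at h
  rw [← cancel_epi c, MonObj.comp_one]
  simp only [Category.assoc] at h ⊢
  rw [← Category.assoc D.split.hom.hom.hom, split_hom_inv, Category.id_comp] at h
  exact h

include hA in
/-- A homomorphism to a commutative group factors through the torus quotient. -/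
theorem comp_eq_sigma {n m : ℕ} {eneg : Fin n → D.idx} {epos : Fin m → D.idx}
    (hneg : RedSub.Enumerates (RedSub.negRoots D.P b) eneg) (hpos : RedSub.Enumerates (RedSub.posRoots D.P b) epos)
    (hN : ∀ x : D.M, x ∈ N ↔ ∀ c : D.idx, D.P.coroot c x = 0) (F : G ⟶ Red.DS S ↥N) [IsMonHom F]
    (hFc : RedSub.cellMap D eneg epos ≫ F = fN D N n m) (π : D.M →+ N) (hπ : ∀ x : N, π x = x) :
    φ = F ≫ Red.DSmap S π ≫ D.split.inv.hom.hom ≫ D.i ≫ φ := by
  haveI := reductive_affine D
  haveI := reductive_smooth D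
  haveI := isOpenImmersion_cellMap hneg hpos
  haveI := (affSmooth_cell D n m).1
  haveI := isMonHom_i (D := D)
  haveI : IsMonHom D.split.inv.hom.hom := inferInstance
  let σ : Red.DS S ↥N ⟶ A := Red.DSmap S π ≫ D.split.inv.hom.hom ≫ D.i ≫ φ
  haveI : IsMonHom σ := inferInstanceAs (IsMonHom (Red.DSmap S π ≫ D.split.inv.hom.hom ≫ D.i ≫ φ))
  have ho : ((1 : 𝟙_ (Over S) ⟶ D.T) ≫ torPt D n m) ≫ RedSub.cellMap D eneg epos = 1 := by
    simp only [Category.assoc, torPt_cellMap, MonObj.one_comp]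
  have hc : RedSub.cellMap D eneg epos ≫ φ = RedSub.cellMap D eneg epos ≫ (F ≫ σ) := by
    rw [← Category.assoc, hFc]
    let I := 𝟙 (cellSpace D n m)
    let Φ : (cellSpace D n m ⟶ G) →* (cellSpace D n m ⟶ A) :=
      MonoidHom.mk' (fun p => p ≫ φ) fun p q => MonObj.mul_comp p q φ
    have hroots : ∀ {k : ℕ} (e : Fin k → D.idx) (q : cellSpace D n m ⟶ RedSub.pow (Red.Ga S) k),
        Φ (List.ofFn fun i => (q ≫ proj _ k i) ≫ D.u (e i)).prod = 1 := fun e q => by
      rw [map_list_prod]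
      refine List.prod_eq_one fun g hg => ?_
      obtain ⟨p, hp, rfl⟩ := List.mem_map.1 hg
      obtain ⟨i, rfl⟩ := List.mem_ofFn.1 hp
      exact root_comp_eq_one b φ hA _ _
    show Φ (RedSub.cellMap D eneg epos) = _
    rw [← Category.id_comp (RedSub.cellMap D eneg epos), comp_cellMap, map_mul, map_mul, hroots, hroots,
      _root_.one_mul, _root_.mul_one]
    let t := 𝟙 (cellSpace D n m) ≫ snd _ _ ≫ fst _ _
    let t₀ := t ≫ D.split.hom.hom.hom ≫ Red.DSmap S N.subtype ≫ Red.DSmap S π ≫ D.split.inv.hom.hom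
    haveI : IsMonHom D.split.hom.hom.hom := inferInstanceAs (IsMonHom D.split.hom.hom.hom)
    haveI : IsMonHom (Red.DSmap S N.subtype) := inferInstance
    have hd : (t / t₀) ≫ D.split.hom.hom.hom ≫ Red.DSmap S N.subtype = 1 := by
      let Φ : (cellSpace D n m ⟶ D.T) →* (cellSpace D n m ⟶ Red.DS S ↥N) :=
        MonoidHom.mk' (fun p => (p ≫ D.split.hom.hom.hom) ≫ Red.DSmap S N.subtype) fun p q =>
          (congrArg (· ≫ Red.DSmap S N.subtype) (@MonObj.mul_comp _ _ _ _ _ _ _ _ p q D.split.hom.hom.hom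
            D.split.hom.hom.isMonHom_hom)).trans (MonObj.mul_comp _ _ _)
      rw [← Category.assoc]
      change Φ (t / t₀) = 1
      rw [map_div, div_eq_one]
      show (t ≫ D.split.hom.hom.hom) ≫ Red.DSmap S N.subtype = (t₀ ≫ D.split.hom.hom.hom) ≫ Red.DSmap S N.subtype
      simp only [t₀, Category.assoc]
      rw [← Category.assoc D.split.inv.hom.hom, split_inv_hom, Category.id_comp,
        Groth.L25.TorusTorsion.DSmap_comp, Groth.L25.TorusTorsion.DSmap_comp, show π.comp N.subtype = AddMonoidHom.id N from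
          AddMonoidHom.ext hπ, AddMonoidHom.comp_id]
    have h := torus_comp_eq_one b φ hA hN _ hd
    let Ψ : (cellSpace D n m ⟶ D.T) →* (cellSpace D n m ⟶ A) :=
      MonoidHom.mk' (fun p => (p ≫ D.i) ≫ φ) fun p q => by rw [MonObj.mul_comp, MonObj.mul_comp]
    change Ψ (t / t₀) = 1 at h
    rw [map_div, div_eq_one] at h
    show Ψ t = _
    rw [h]
    simp only [Ψ, MonoidHom.mk'_apply, t₀, t, σ, fN, Category.id_comp, Category.assoc]
  exact Groth.L14.CellHom.hom_ext (RedSub.cellMap D eneg epos) _ ho (Groth.L14.TypeR.irrFib_splitRed D) hc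

/-- The homomorphism with its kernel. -/
theorem exists_hom_kernel (b : D.P.Base) (hN : ∀ x : D.M, x ∈ N ↔ ∀ c : D.idx, D.P.coroot c x = 0) :
    ∃ F : G ⟶ Red.DS S ↥N, IsMonHom F ∧ D.i ≫ F = D.split.hom.hom.hom ≫ Red.DSmap S N.subtype ∧
      ∀ (K : Over S) [GrpObj K] (k : K ⟶ G) [IsMonHom k], AlgGrp.IsKernel k F →
        Smooth K.hom ∧ RedSub.HasConnectedFibres K ∧ RedSub.KilledByCommutative k := by
  obtain ⟨n, eneg, hneg⟩ := exists_enum (D := D) (RedSub.negRoots D.P b)
  obtain ⟨m, epos, hpos⟩ := exists_enum (D := D) (RedSub.posRoots D.P b)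
  obtain ⟨F, hF, hFc, hFi⟩ := exists_torusHom D b N hneg hpos (fun x hx => (hN x).1 hx)
  haveI := hF
  refine ⟨F, hF, hFi, fun K _ k _ hk => ?_⟩
  haveI := reductive_affine D
  haveI := reductive_smooth D
  haveI := isMonHom_i (D := D)
  obtain ⟨π, ψ, s, hπ, -, -⟩ := exists_retract D N hN
  let σ : Red.DS S ↥N ⟶ G := Red.DSmap S π ≫ D.split.inv.hom.hom ≫ D.i
  haveI : IsMonHom σ := inferInstanceAs (IsMonHom (Red.DSmap S π ≫ D.split.inv.hom.hom ≫ D.i))
  have hσF : σ ≫ F = 𝟙 _ := by
    simp only [σ, Category.assoc, hFi]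
    rw [← Category.assoc D.split.inv.hom.hom, split_inv_hom, Category.id_comp, Groth.L25.TorusTorsion.DSmap_comp,
      show π.comp N.subtype = AddMonoidHom.id N from AddMonoidHom.ext hπ, Groth.L25.TorusTorsion.DSmap_id]
  let g₀ : G ⟶ G := 𝟙 G / (F ≫ σ)
  have hg₀ : g₀ ≫ F = toUnit G ≫ η[Red.DS S ↥N] := by
    let Φ : (G ⟶ G) →* (G ⟶ Red.DS S ↥N) := MonoidHom.mk' (fun p => p ≫ F) fun p q => MonObj.mul_comp p q F
    change Φ (𝟙 G / (F ≫ σ)) = _
    rw [map_div]
    show (𝟙 G ≫ F) / ((F ≫ σ) ≫ F) = _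
    rw [Category.id_comp, Category.assoc, hσF, Category.comp_id, div_self']
    exact (MonObj.one_eq_one (M := Red.DS S ↥N)) ▸ (MonObj.comp_one (toUnit G)).symm
  let r : G ⟶ K := hk.lift g₀ (toUnit G) hg₀
  have hkF : k ≫ F = 1 := by
    rw [hk.w]; exact (MonObj.one_eq_one (M := Red.DS S ↥N)) ▸ MonObj.comp_one (toUnit K)
  haveI : Mono η[Red.DS S ↥N] := ⟨fun p q _ => toUnit_unique p q⟩
  haveI : Mono k := hk.mono_fst_of_mono
  have hkr : k ≫ r = 𝟙 K := (cancel_mono k).1 (by
    rw [Category.assoc, hk.lift_fst, Category.id_comp, GrpObj.comp_div, Category.comp_id, ← Category.assoc, hkF,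
      MonObj.one_comp, div_one])
  refine ⟨?_, fun x => ?_, fun A _ φ _ hA => ?_⟩
  · haveI : IsAffineHom (Red.DS S ↥N).hom := by
      haveI : IsAffine (Red.diag (ULift.{u} ℤ) ↥N).left := inferInstanceAs (IsAffine (Spec _))
      haveI : IsAffineHom (Red.diag (ULift.{u} ℤ) ↥N).hom := isAffineHom_of_isAffine _
      exact MorphismProperty.pullback_snd _ _ ‹IsAffineHom (Red.diag (ULift.{u} ℤ) ↥N).hom›
    haveI : Module.Finite ℤ ↥N := Module.Finite.iff_addGroup_fg.2 (by
      have := (inferInstance : Module.Finite ℤ (AddSubgroup.toIntSubmodule N))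
      exact Module.Finite.iff_addGroup_fg.1 this)
    haveI : Module.Free ℤ ↥N := Module.Free.of_equiv (LinearEquiv.refl ℤ (AddSubgroup.toIntSubmodule N) :
      _ ≃ₗ[ℤ] ↥N)
    haveI := (affSmooth_DS S ↥N).2
    haveI : LocallyOfFinitePresentation η[Red.DS S ↥N].left := by exact TrivLocus.lfp_one (G := Red.DS S ↥N)
    haveI : IsClosedImmersion η[Red.DS S ↥N].left := by
      haveI : IsClosedImmersion (η[Red.DS S ↥N].left ≫ (Red.DS S ↥N).hom) := by
        rw [Over.w]
        exact inferInstanceAs (IsClosedImmersion (𝟙 S))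
      exact IsClosedImmersion.of_comp _ (Red.DS S ↥N).hom
    have hpb := hk.map (Over.forget S)
    haveI : IsClosedImmersion k.left := MorphismProperty.of_isPullback (P := @IsClosedImmersion) hpb.flip ‹_›
    haveI : LocallyOfFinitePresentation k.left :=
      MorphismProperty.of_isPullback (P := @LocallyOfFinitePresentation) hpb.flip ‹_›
    haveI : IsAffineHom K.hom := by rw [← Over.w k]; infer_instance
    haveI : LocallyOfFinitePresentation K.hom := by rw [← Over.w k]; infer_instance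
    exact smooth_retract k r hkr
  · have hG := Groth.L14.RankOne.isConnected_fibre_of_reductive D.reductive x
    have he : K.hom.base ⁻¹' {x} = r.left '' (G.hom.base ⁻¹' {x}) := by
      ext p
      refine ⟨fun hp => ⟨k.left p, ?_, ?_⟩, ?_⟩
      · show G.hom (k.left p) = x
        rw [← Scheme.Hom.comp_apply, Over.w]; exact hp
      · rw [← Scheme.Hom.comp_apply, ← Over.comp_left, hkr]; rfl
      · rintro ⟨q, hq, rfl⟩
        show K.hom (r.left q) = x
        rw [← Scheme.Hom.comp_apply, Over.w]; exact hq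
    rw [he]
    exact hG.image _ (Scheme.Hom.continuous _).continuousOn
  · rw [comp_eq_sigma b φ hA hneg hpos hN F hFc π hπ, ← Category.assoc, hkF, MonObj.one_comp]

end Groth.L14.Coroot
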