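import Groth.Agent.L14.Coroot.Small
import Groth.Agent.L14.Chev.Cell.Limit
import Mathlib.RingTheory.PowerSeries.Inverse

/-!
The torus component modulo the coroot torus is multiplicative on the big cell.
-/

set_option autoImplicit false
universe u

open CategoryTheory CategoryTheory.Limits AlgebraicGeometry MonoidalCategory CartesianMonoidalCategory MonObj
open Groth.L14.RankOne Groth.L25 Groth.L14.Chart Groth.L14.Chev.Cell

set_option backward.isDefEq.respectTransparency.types false
set_option linter.style.haveILetI false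
set_option linter.unusedSectionVars false
set_option maxHeartbeats 1000000

noncomputable section

namespace Groth.L14.Coroot

/-- A non-zero-divisor stays one after localisation away from an element. -/
theorem eq_zero_away {A : Type u} [CommRing A] (P Q : A) (hP : P ∈ nonZeroDivisors A) {B : Type u} [CommRing B]
    [Algebra A B] [IsLocalization.Away Q B] {E : Type u} [CommRing E] [Algebra A E]
    [IsLocalization.Away (P * Q) E] (f : B →+* E) (hf : f.comp (algebraMap A B) = algebraMap A E)
    (v : B) (hv : f v = 0) : v = 0 := by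
  obtain ⟨⟨a, q⟩, ha⟩ := IsLocalization.surj (Submonoid.powers Q) v
  have h0 : algebraMap A E a = 0 := by
    rw [← hf, RingHom.comp_apply, ← ha, map_mul, hv, zero_mul]
  obtain ⟨⟨_, k, rfl⟩, hk⟩ := (IsLocalization.map_eq_zero_iff (Submonoid.powers (P * Q)) E a).1 h0
  have hk' : P ^ k * (Q ^ k * a) = 0 := by
    rw [← _root_.mul_assoc, ← mul_pow]; exact hk
  have h2 : algebraMap A B a = 0 :=
    (IsLocalization.map_eq_zero_iff (Submonoid.powers Q) B a).2 ⟨⟨Q ^ k, k, rfl⟩,
      mul_left_mem_nonZeroDivisors_eq_zero_iff (pow_mem hP k) |>.1 hk'⟩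
  rw [h2] at ha
  exact (IsLocalization.map_units B q).mul_left_eq_zero.1 ha

/-- An element equal to one in all localisations at maximal ideals is one. -/
theorem eq_one_of_local {C : Type u} [CommRing C] (v : C)
    (h : ∀ (m : Ideal C) [m.IsMaximal], algebraMap C (Localization.AtPrime m) v = 1) : v = 1 := by
  by_contra hne
  let J : Ideal C := (⊥ : Ideal C).colon ({v - 1} : Set C)
  have hJ : J ≠ ⊤ := fun e => hne (by
    have h1 : (1 : C) ∈ J := e ▸ Submodule.mem_top
    rw [Submodule.mem_colon] at h1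
    have := h1 (v - 1) rfl
    rw [one_smul, Ideal.mem_bot] at this
    exact sub_eq_zero.1 this)
  obtain ⟨m, hm, hJm⟩ := Ideal.exists_le_maximal J hJ
  have h0 : algebraMap C (Localization.AtPrime m) (v - 1) = 0 := by rw [map_sub, map_one, h m, sub_self]
  obtain ⟨s, hs⟩ := (IsLocalization.map_eq_zero_iff m.primeCompl (Localization.AtPrime m) (v - 1)).1 h0
  exact s.2 (hJm (Submodule.mem_colon.2 fun x hx => by
    rw [Set.mem_singleton_iff] at hx
    subst hx
    rw [smul_eq_mul, hs]
    exact zero_mem _))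

variable {S : Scheme.{u}} {G : Over S} [GrpObj G] {D : Red.SplitRed G} (b : D.P.Base) {n m : ℕ}
  {eneg : Fin n → D.idx} {epos : Fin m → D.idx}
  {R : Type u} [CommRing R] {j : Spec (CommRingCat.of R) ⟶ S} [IsOpenImmersion j]
  {C : Type u} [CommRing C] [Algebra R C]

/-- Decompositions in the big cell are unique. -/
theorem decomp_char_unique (hneg : RedSub.Enumerates (RedSub.negRoots D.P b) eneg)
    (hpos : RedSub.Enumerates (RedSub.posRoots D.P b) epos) {χ χ' : Multiplicative D.M →* C} {y y' x x' : D.idx → C}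
    (h : rootProd j D.u (List.ofFn eneg) y * ((tpt D j χ ≫ D.i) * rootProd j D.u (List.ofFn epos) x) =
      rootProd j D.u (List.ofFn eneg) y' * ((tpt D j χ' ≫ D.i) * rootProd j D.u (List.ofFn epos) x')) : χ = χ' := by
  obtain ⟨lam, hl⟩ := hasLam b
  exact (cell_injective D.rootHom (mu := lam) (nodup_list hneg) (nodup_list hpos)
    (fun c hc => (hl c).2 ((mem_list_iff hneg c).1 hc)) (fun c hc => (hl c).1 ((mem_list_iff hpos c).1 hc)) h).1

/-- The torus part of a product of a positive and a negative point over a local ring. -/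
theorem char_eq_one_local [IsLocalRing C] (hneg : RedSub.Enumerates (RedSub.negRoots D.P b) eneg)
    (hpos : RedSub.Enumerates (RedSub.posRoots D.P b) epos)
    {x y : D.idx → C} {χ : Multiplicative D.M →* C} {y' x' : D.idx → C}
    (h : rootProd j D.u (List.ofFn epos) x * rootProd j D.u (List.ofFn eneg) y =
      rootProd j D.u (List.ofFn eneg) y' * ((tpt D j χ ≫ D.i) * rootProd j D.u (List.ofFn epos) x'))
    (ν : D.M) (hν : ∀ c, D.P.coroot c ν = 0) : χ (Multiplicative.ofAdd ν) = 1 := by
  classical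
  haveI := isMonHom_i (D := D)
  haveI : ∀ c, IsMonHom (D.u c) := fun c => (D.rootHom c).1
  haveI := isOpenImmersion_cellMap hneg hpos
  let A : Type u := Polynomial C
  let g : Sp j A ⟶ G := rootProd j D.u (List.ofFn epos) (fun c => Polynomial.X * Polynomial.C (x c)) *
    rootProd j D.u (List.ofFn eneg) (fun c => Polynomial.X * Polynomial.C (y c))
  let U : Set (PrimeSpectrum A) := g.left ⁻¹' Set.range (RedSub.cellMap D eneg epos).left
  have hUo : IsOpen U :=
    (g.left ⁻¹ᵁ (RedSub.cellMap D eneg epos).left.opensRange).2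
  have hg : ∀ {E : Type u} [CommRing E] [Algebra R E] (φ : A →ₐ[R] E), mor j φ ≫ g =
      rootProd j D.u (List.ofFn epos) (fun c => φ Polynomial.X * φ (Polynomial.C (x c))) *
        rootProd j D.u (List.ofFn eneg) (fun c => φ Polynomial.X * φ (Polynomial.C (y c))) := fun φ => by
    simp only [g, MonObj.comp_mul, mor_rootProd, map_mul]
  let ev : C → (A →ₐ[R] C) := fun s => polEval (AlgHom.id R C) s
  have hevX : ∀ s, ev s Polynomial.X = s := fun s => Polynomial.eval₂_X _ _
  have hevC : ∀ s v, ev s (Polynomial.C v) = v := fun s v => Polynomial.eval₂_C _ _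
  have hpt : ∀ s : C, (∃ t : Sp j C ⟶ cellSpace D n m, t ≫ RedSub.cellMap D eneg epos = mor j (ev s) ≫ g) →
      ∃ P : A, IsUnit (ev s P) ∧ (PrimeSpectrum.basicOpen P : Set (PrimeSpectrum A)) ⊆ U := by
    rintro s ⟨t, ht⟩
    let q : PrimeSpectrum A := PrimeSpectrum.comap (ev s).toRingHom (IsLocalRing.closedPoint C)
    have hq : q ∈ U := by
      show g.left ((mor j (ev s)).left (IsLocalRing.closedPoint C)) ∈ Set.range (RedSub.cellMap D eneg epos).left
      rw [← Scheme.Hom.comp_apply, ← Over.comp_left, ← ht, Over.comp_left, Scheme.Hom.comp_apply]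
      exact Set.mem_range_self _
    obtain ⟨_, ⟨P, rfl⟩, hqP, hPU⟩ :=
      PrimeSpectrum.isTopologicalBasis_basic_opens.exists_subset_of_mem_open (a := q) hq hUo
    refine ⟨P, ?_, hPU⟩
    by_contra hnu
    exact hqP ((IsLocalRing.mem_maximalIdeal _).2 hnu)
  obtain ⟨P, hP0, hPU⟩ := hpt 0 ⟨lift (tup n fun _ => gp j 0) (lift (tpt D j 1) (tup m fun _ => gp j 0)), by
    have h1 := lift_cellMap (j := j) (eneg := eneg) (epos := epos) (1 : Multiplicative D.M →* C) 0 0
    simp only [Pi.zero_apply] at h1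
    rw [h1, hg]
    simp only [hevX, zero_mul]
    rw [tpt_one, MonObj.one_comp, rootProd_eq_one j (x := (0 : D.idx → C)) fun _ _ => rfl,
      rootProd_eq_one j (x := (0 : D.idx → C)) fun _ _ => rfl, rootProd_eq_one j (x := fun _ => (0 : C)) fun _ _ => rfl,
      rootProd_eq_one j (x := fun _ => (0 : C)) fun _ _ => rfl, _root_.one_mul]⟩
  obtain ⟨Q, hQ1, hQU⟩ := hpt 1 ⟨lift (tup n fun k => gp j (y' (eneg k))) (lift (tpt D j χ) (tup m fun k => gp j (x' (epos k)))), by
    rw [lift_cellMap, hg, ← h]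
    simp only [hevX, hevC, _root_.one_mul]⟩
  -- lifting over a basic open
  have hlift : ∀ (F : A) (E : Type u) [CommRing E] [Algebra A E] [IsLocalization.Away F E] [Algebra R E]
      [IsScalarTower R A E], (PrimeSpectrum.basicOpen F : Set (PrimeSpectrum A)) ⊆ U →
      ∃ (χ₁ : Multiplicative D.M →* E) (y₁ x₁ : D.idx → E), mor j (IsScalarTower.toAlgHom R A E) ≫ g =
        rootProd j D.u (List.ofFn eneg) y₁ * ((tpt D j χ₁ ≫ D.i) * rootProd j D.u (List.ofFn epos) x₁) := by
    intro F E _ _ _ _ _ hFU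
    have hr : Set.range (mor j (IsScalarTower.toAlgHom R A E) ≫ g).left ⊆
        Set.range (RedSub.cellMap D eneg epos).left := by
      rintro _ ⟨p, rfl⟩
      rw [Over.comp_left, Scheme.Hom.comp_apply]
      refine hFU (?_ : PrimeSpectrum.comap (algebraMap A E) p ∈ PrimeSpectrum.basicOpen F)
      have := Set.mem_range_self (f := PrimeSpectrum.comap (algebraMap A E)) p
      rwa [PrimeSpectrum.localization_away_comap_range E F] at this
    obtain ⟨t, ht⟩ := Groth.L14.CellHom.exists_lift_of_mem (RedSub.cellMap D eneg epos) _ hr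
    obtain ⟨χ₁, y₁, x₁, e, -⟩ := exists_coords t hneg.1 hpos.1
    exact ⟨χ₁, y₁, x₁, ht ▸ e⟩
  let BP : Type u := Localization.Away P
  let BQ : Type u := Localization.Away Q
  let BE : Type u := Localization.Away (P * Q)
  have hEU : (PrimeSpectrum.basicOpen (P * Q) : Set (PrimeSpectrum A)) ⊆ U :=
    Set.Subset.trans (PrimeSpectrum.basicOpen_mul_le_left P Q) hPU
  obtain ⟨χP, yP, xP, eP⟩ := hlift P BP hPU
  obtain ⟨χQ, yQ, xQ, eQ⟩ := hlift Q BQ hQU
  -- in power series the torus part is killed
  let toPS : A →+* PowerSeries C := Polynomial.coeToPowerSeries.ringHom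
  have hPunit : IsUnit (toPS P) := by
    rw [Polynomial.coeToPowerSeries.ringHom_apply, PowerSeries.isUnit_iff_constantCoeff,
      Polynomial.constantCoeff_coe, Polynomial.coeff_zero_eq_eval_zero]
    exact hP0
  have hPreg : P ∈ nonZeroDivisors A := mem_nonZeroDivisors_iff_right.2 fun z hz => by
    have h0 : toPS z * toPS P = 0 := by rw [← map_mul, hz, map_zero]
    exact Polynomial.coe_inj.1 (((hPunit.mul_left_eq_zero).1 h0).trans Polynomial.coe_zero.symm)
  let φ : BP →ₐ[R] PowerSeries C :=
    { IsLocalization.Away.lift P hPunit with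
      commutes' := fun r => by
        show IsLocalization.Away.lift P hPunit (algebraMap R BP r) = _
        rw [IsScalarTower.algebraMap_apply R A BP]
        simp only [RingHom.toMonoidHom_eq_coe, IsLocalization.Away.lift_eq]
        rw [IsScalarTower.algebraMap_apply R C A, IsScalarTower.algebraMap_apply R C (PowerSeries C)]
        exact Polynomial.coe_C _ }
  have hφA : ∀ z : A, φ (algebraMap A BP z) = toPS z := fun z => IsLocalization.Away.lift_eq P hPunit z
  have hφinj : Function.Injective φ := by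
    show Function.Injective (IsLocalization.Away.lift P hPunit)
    refine (IsLocalization.lift_injective_iff _).2 fun a c => ⟨fun e => ?_, fun e => congrArg _ (Polynomial.coe_inj.1 e)⟩
    obtain ⟨⟨_, k, rfl⟩, hk⟩ := (IsLocalization.eq_iff_exists (Submonoid.powers P) BP).1 e
    have h' := congrArg toPS hk
    rw [map_mul, map_mul, map_pow] at h'
    exact (hPunit.pow k).mul_left_cancel h'
  have hPone : χP (Multiplicative.ofAdd ν) = 1 := by
    refine hφinj ?_
    rw [map_one]
    let I : Ideal (PowerSeries C) := Ideal.span {PowerSeries.X}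
    have hI : ∀ r ∈ I, IsUnit (1 + r) := fun r hr => by
      obtain ⟨s, rfl⟩ := Ideal.mem_span_singleton'.1 hr
      refine PowerSeries.isUnit_iff_constantCoeff.2 ?_
      simp
    have e := congrArg (fun p => mor j φ ≫ p) eP
    simp only [← Category.assoc, ← mor_comp, MonObj.comp_mul, mor_rootProd, mor_tpt] at e
    rw [hg] at e
    have hX : (φ.comp (IsScalarTower.toAlgHom R A BP)) Polynomial.X ∈ I := by
      rw [AlgHom.comp_apply, IsScalarTower.toAlgHom_apply, hφA, Polynomial.coeToPowerSeries.ringHom_apply,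
        Polynomial.coe_X]
      exact Ideal.mem_span_singleton_self _
    exact char_eq_one_small I b hI hneg hpos (fun c => I.mul_mem_right _ hX) (fun c => I.mul_mem_right _ hX) e ν hν
  -- comparison on the intersection
  have hQone : χQ (Multiplicative.ofAdd ν) = 1 := by
    let fP : BP →ₐ[A] BE :=
      { IsLocalization.Away.lift P (g := algebraMap A BE) (isUnit_of_mul_isUnit_left
          (by rw [← map_mul]; exact IsLocalization.Away.algebraMap_isUnit (P * Q))) with
        commutes' := fun z => IsLocalization.Away.lift_eq P _ z }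
    let fQ : BQ →ₐ[A] BE :=
      { IsLocalization.Away.lift Q (g := algebraMap A BE) (isUnit_of_mul_isUnit_right
          (by rw [← map_mul]; exact IsLocalization.Away.algebraMap_isUnit (P * Q))) with
        commutes' := fun z => IsLocalization.Away.lift_eq Q _ z }
    have h1 := congrArg (fun p => mor j (fP.restrictScalars R) ≫ p) eP
    have h2 := congrArg (fun p => mor j (fQ.restrictScalars R) ≫ p) eQ
    simp only [← Category.assoc, ← mor_comp, MonObj.comp_mul, mor_rootProd, mor_tpt] at h1 h2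
    rw [show (fP.restrictScalars R).comp (IsScalarTower.toAlgHom R A BP) = IsScalarTower.toAlgHom R A BE from
      AlgHom.ext fun z => fP.commutes z] at h1
    rw [show (fQ.restrictScalars R).comp (IsScalarTower.toAlgHom R A BQ) = IsScalarTower.toAlgHom R A BE from
      AlgHom.ext fun z => fQ.commutes z, h1] at h2
    have e := DFunLike.congr_fun (decomp_char_unique b hneg hpos h2) (Multiplicative.ofAdd ν)
    change fP (χP (Multiplicative.ofAdd ν)) = fQ (χQ (Multiplicative.ofAdd ν)) at e
    rw [hPone, map_one] at e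
    refine sub_eq_zero.1 (eq_zero_away P Q hPreg (E := BE) fQ.toRingHom (RingHom.ext fun z => fQ.commutes z) _ ?_)
    show fQ (χQ (Multiplicative.ofAdd ν) - 1) = 0
    rw [map_sub, map_one, ← e, sub_self]
  -- evaluation at one
  let ψ : BQ →ₐ[R] C :=
    { IsLocalization.Away.lift Q (g := (ev 1).toRingHom) hQ1 with
      commutes' := fun r => by
        show IsLocalization.Away.lift Q _ (algebraMap R BQ r) = _
        rw [IsScalarTower.algebraMap_apply R A BQ]
        exact (IsLocalization.Away.lift_eq Q _ _).trans ((ev 1).commutes r) }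
  have e := congrArg (fun p => mor j ψ ≫ p) eQ
  simp only [← Category.assoc, ← mor_comp, MonObj.comp_mul, mor_rootProd, mor_tpt] at e
  rw [show ψ.comp (IsScalarTower.toAlgHom R A BQ) = ev 1 from AlgHom.ext fun z => IsLocalization.Away.lift_eq Q (g := (ev 1).toRingHom) hQ1 z,
    hg] at e
  simp only [hevX, hevC, _root_.one_mul] at e
  rw [h] at e
  rw [decomp_char_unique b hneg hpos e]
  show ψ (χQ (Multiplicative.ofAdd ν)) = 1
  rw [hQone, map_one]

/-- The torus part of a product of a positive and a negative point. -/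
theorem char_eq_one (hneg : RedSub.Enumerates (RedSub.negRoots D.P b) eneg)
    (hpos : RedSub.Enumerates (RedSub.posRoots D.P b) epos)
    {x y : D.idx → C} {χ : Multiplicative D.M →* C} {y' x' : D.idx → C}
    (h : rootProd j D.u (List.ofFn epos) x * rootProd j D.u (List.ofFn eneg) y =
      rootProd j D.u (List.ofFn eneg) y' * ((tpt D j χ ≫ D.i) * rootProd j D.u (List.ofFn epos) x'))
    (ν : D.M) (hν : ∀ c, D.P.coroot c ν = 0) : χ (Multiplicative.ofAdd ν) = 1 := by
  refine eq_one_of_local _ fun m _ => ?_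
  let φ : C →ₐ[R] Localization.AtPrime m := IsScalarTower.toAlgHom R C _
  have e := congrArg (fun p => mor j φ ≫ p) h
  simp only [← Category.assoc, MonObj.comp_mul, mor_rootProd, mor_tpt] at e
  exact char_eq_one_local b hneg hpos e ν hν

/-- The torus components of a product in the big cell multiply modulo the coroot torus. -/
theorem char_mul (hneg : RedSub.Enumerates (RedSub.negRoots D.P b) eneg)
    (hpos : RedSub.Enumerates (RedSub.posRoots D.P b) epos)
    {χ₁ χ₂ χ₃ : Multiplicative D.M →* C} {y₁ x₁ y₂ x₂ y₃ x₃ : D.idx → C}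
    (h : rootProd j D.u (List.ofFn eneg) y₃ * ((tpt D j χ₃ ≫ D.i) * rootProd j D.u (List.ofFn epos) x₃) =
      (rootProd j D.u (List.ofFn eneg) y₁ * ((tpt D j χ₁ ≫ D.i) * rootProd j D.u (List.ofFn epos) x₁)) *
        (rootProd j D.u (List.ofFn eneg) y₂ * ((tpt D j χ₂ ≫ D.i) * rootProd j D.u (List.ofFn epos) x₂)))
    (ν : D.M) (hν : ∀ c, D.P.coroot c ν = 0) :
    χ₃ (Multiplicative.ofAdd ν) = χ₁ (Multiplicative.ofAdd ν) * χ₂ (Multiplicative.ofAdd ν) := by
  haveI := isMonHom_i (D := D)
  haveI : ∀ c, IsMonHom (D.u c) := fun c => (D.rootHom c).1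
  haveI : Finite D.idx := Finite.of_fintype _
  obtain ⟨lvp, hFp⟩ := exists_filt_pos (D := D) b
  obtain ⟨lvn, hFn⟩ := exists_filt_neg (D := D) b
  obtain ⟨y, hy⟩ := (mem_gen_iff D.rootHom hFn (nodup_list hneg) (mem_list_iff hneg)).1
    (mul_mem (inv_mem (rootProd_mem_gen (j := j) D.rootHom (l := List.ofFn eneg) (x := y₁)
      fun c hc _ => ⟨(mem_list_iff hneg c).1 hc, Nat.zero_le _⟩))
      (rootProd_mem_gen (j := j) D.rootHom (l := List.ofFn eneg) (x := y₃)
      fun c hc _ => ⟨(mem_list_iff hneg c).1 hc, Nat.zero_le _⟩))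
  obtain ⟨x, hx⟩ := (mem_gen_iff D.rootHom hFp (nodup_list hpos) (mem_list_iff hpos)).1
    (mul_mem (rootProd_mem_gen (j := j) D.rootHom (l := List.ofFn epos) (x := x₃)
      fun c hc _ => ⟨(mem_list_iff hpos c).1 hc, Nat.zero_le _⟩)
      (inv_mem (rootProd_mem_gen (j := j) D.rootHom (l := List.ofFn epos) (x := x₂)
      fun c hc _ => ⟨(mem_list_iff hpos c).1 hc, Nat.zero_le _⟩)))
  obtain ⟨i₁, hi₁⟩ : ∃ i, i * χ₁ = 1 :=
    ⟨(Units.coeHom C).comp χ₁.toHomUnits⁻¹, MonoidHom.ext fun m => Units.inv_mul (χ₁.toHomUnits m)⟩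
  obtain ⟨i₂, hi₂⟩ : ∃ i, i * χ₂ = 1 :=
    ⟨(Units.coeHom C).comp χ₂.toHomUnits⁻¹, MonoidHom.ext fun m => Units.inv_mul (χ₂.toHomUnits m)⟩
  have hinv : ∀ {i χ : Multiplicative D.M →* C}, i * χ = 1 → (tpt D j χ ≫ D.i)⁻¹ = tpt D j i ≫ D.i := fun hi => by
    rw [inv_eq_iff_mul_eq_one, ← MonObj.mul_comp, ← tpt_mul, _root_.mul_comm, hi, tpt_one, MonObj.one_comp]
  have hkey : rootProd j D.u (List.ofFn epos) x₁ * rootProd j D.u (List.ofFn eneg) y₂ =
      rootProd j D.u (List.ofFn eneg) (fun c => i₁ (Multiplicative.ofAdd (D.P.root c)) * y c) *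
        ((tpt D j (i₁ * χ₃ * i₂) ≫ D.i) *
          rootProd j D.u (List.ofFn epos) (fun c => χ₂ (Multiplicative.ofAdd (D.P.root c)) * x c)) := by
    rw [← conj_rootProd j D.rootHom, ← conj_rootProd j D.rootHom, hy, hx, tpt_mul, tpt_mul, MonObj.mul_comp,
      MonObj.mul_comp, ← hinv hi₁, ← hinv hi₂]
    calc _ = (tpt D j χ₁ ≫ D.i)⁻¹ * (rootProd j D.u (List.ofFn eneg) y₁)⁻¹ *
          ((rootProd j D.u (List.ofFn eneg) y₁ * ((tpt D j χ₁ ≫ D.i) * rootProd j D.u (List.ofFn epos) x₁)) *
            (rootProd j D.u (List.ofFn eneg) y₂ * ((tpt D j χ₂ ≫ D.i) * rootProd j D.u (List.ofFn epos) x₂))) *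
          (rootProd j D.u (List.ofFn epos) x₂)⁻¹ * (tpt D j χ₂ ≫ D.i)⁻¹ := by group
      _ = _ := by rw [← h]; group
  have hk := char_eq_one b hneg hpos hkey ν hν
  rw [MonoidHom.mul_apply, MonoidHom.mul_apply] at hk
  have e1 := DFunLike.congr_fun hi₁ (Multiplicative.ofAdd ν)
  have e2 := DFunLike.congr_fun hi₂ (Multiplicative.ofAdd ν)
  rw [MonoidHom.mul_apply, MonoidHom.one_apply] at e1 e2
  calc χ₃ (Multiplicative.ofAdd ν) =
        (i₁ (Multiplicative.ofAdd ν) * χ₁ (Multiplicative.ofAdd ν)) * χ₃ (Multiplicative.ofAdd ν) *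
          (i₂ (Multiplicative.ofAdd ν) * χ₂ (Multiplicative.ofAdd ν)) := by
        rw [e1, e2, _root_.one_mul, _root_.mul_one]
    _ = (i₁ (Multiplicative.ofAdd ν) * χ₃ (Multiplicative.ofAdd ν) * i₂ (Multiplicative.ofAdd ν)) *
          (χ₁ (Multiplicative.ofAdd ν) * χ₂ (Multiplicative.ofAdd ν)) := by ring
    _ = _ := by rw [hk, _root_.one_mul]

end Groth.L14.Coroot
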