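import Groth.Agent.L14.Coroot.Coav
import Groth.Agent.L14.Chev.Cell.HatSimple
import Groth.Agent.L14.Chev.Cell.Generated

/-!
Products of root points near the unit have torus part in the subtorus of the coroots.
-/

set_option autoImplicit false
universe u

open CategoryTheory CategoryTheory.Limits AlgebraicGeometry MonoidalCategory CartesianMonoidalCategory MonObj
open Groth.L14.RankOne Groth.L25 Groth.L14.Chart Groth.L14.Chev.Cell

set_option backward.isDefEq.respectTransparency.types false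
set_option linter.style.haveILetI false
set_option linter.unusedSectionVars false
set_option maxHeartbeats 1000000

noncomputable section

namespace Groth.L14.Coroot

variable {S : Scheme.{u}} {G : Over S} [GrpObj G] {D : Red.SplitRed G}
  {R : Type u} [CommRing R] {j : Spec (CommRingCat.of R) ⟶ S} {C : Type u} [CommRing C] [Algebra R C]
  (I : Ideal C)

variable (D j) in
/-- The group generated by root points with small coordinates. -/
def sml (Ψ : Set D.idx) : Subgroup (Sp j C ⟶ G) :=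
  Subgroup.closure {g | ∃ c ∈ Ψ, ∃ r ∈ I, g = gp j r ≫ D.u c}

theorem gp_mem_sml {Ψ : Set D.idx} {c : D.idx} (hc : c ∈ Ψ) {r : C} (hr : r ∈ I) :
    gp j r ≫ D.u c ∈ sml D j I Ψ := Subgroup.subset_closure ⟨c, hc, r, hr, rfl⟩

theorem rootProd_mem_sml {Ψ : Set D.idx} {l : List D.idx} (hl : ∀ c ∈ l, c ∈ Ψ) {x : D.idx → C}
    (hx : ∀ c ∈ l, x c ∈ I) : rootProd j D.u l x ∈ sml D j I Ψ :=
  list_prod_mem fun g hg => by
    obtain ⟨c, hc, rfl⟩ := List.mem_map.1 hg
    exact gp_mem_sml I (hl c hc) (hx c hc)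

theorem mor_sml {Ψ : Set D.idx} {g : Sp j C ⟶ G} (hg : g ∈ sml D j I Ψ) :
    mor j (Ideal.Quotient.mkₐ R I) ≫ g = 1 := by
  haveI : ∀ c, IsMonHom (D.u c) := fun c => (D.rootHom c).1
  induction hg using Subgroup.closure_induction with
  | mem g hg =>
    obtain ⟨c, -, r, hr, rfl⟩ := hg
    rw [← Category.assoc, mor_gp, Ideal.Quotient.mkₐ_eq_mk, Ideal.Quotient.eq_zero_iff_mem.2 hr, gp_zero,
      MonObj.one_comp]
  | one => exact MonObj.comp_one _
  | mul g h _ _ hg hh => rw [MonObj.comp_mul, hg, hh, _root_.mul_one]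
  | inv g _ hg => rw [GrpObj.comp_inv, hg, inv_one]

theorem exists_sml_coords [IsOpenImmersion j] {Ψ : Set D.idx} {lv : D.idx → ℕ} (hF : Filt D Ψ lv) {mu : D.M →+ ℤ}
    (hmu : ∀ c ∈ Ψ, 0 < mu (D.P.root c)) {l : List D.idx} (hnd : l.Nodup) (hl : ∀ c, c ∈ l ↔ c ∈ Ψ)
    {g : Sp j C ⟶ G} (hg : g ∈ sml D j I Ψ) :
    ∃ x : D.idx → C, (∀ c ∈ l, x c ∈ I) ∧ rootProd j D.u l x = g := by
  haveI := isMonHom_i (D := D)
  haveI : ∀ c, IsMonHom (D.u c) := fun c => (D.rootHom c).1
  have hg' : g ∈ gen j C D.u Ψ lv 0 := by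
    refine (Subgroup.closure_le _).2 ?_ hg
    rintro _ ⟨c, hc, r, -, rfl⟩
    exact gp_mem_gen hc (Nat.zero_le _) r
  obtain ⟨x, hx⟩ := (mem_gen_iff D.rootHom hF hnd hl).1 hg'
  refine ⟨x, fun c hc => ?_, hx⟩
  have h := mor_sml I hg
  rw [← hx, mor_rootProd] at h
  have h' : rootProd j D.u l (fun c => Ideal.Quotient.mkₐ R I (x c)) = rootProd j D.u l (0 : D.idx → C ⧸ I) := by
    rw [h, rootProd_eq_one j (x := (0 : D.idx → C ⧸ I)) fun _ _ => rfl]
  have := rootProd_injective_of_pos D.rootHom (mu := mu) hnd (fun c hc => hmu c ((hl c).1 hc)) h' c hc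
  exact Ideal.Quotient.eq_zero_iff_mem.1 this

variable (b : D.P.Base)

variable (D j) in
/-- The small cell with torus part killed by the characters orthogonal to the coroots. -/
def smlCell : Set (Sp j C ⟶ G) :=
  {g | ∃ p ∈ sml D j I (RedSub.negRoots D.P b), ∃ χ : Multiplicative D.M →* C,
    (∀ ν : D.M, (∀ c, D.P.coroot c ν = 0) → χ (Multiplicative.ofAdd ν) = 1) ∧
      ∃ q ∈ sml D j I (RedSub.posRoots D.P b), g = p * (tpt D j χ ≫ D.i) * q}

theorem one_mem_smlCell : (1 : Sp j C ⟶ G) ∈ smlCell D j I b :=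
  haveI := isMonHom_i (D := D)
  ⟨1, one_mem _, 1, fun _ _ => rfl, 1, one_mem _, by
    rw [tpt_one, MonObj.one_comp, _root_.one_mul, _root_.mul_one]⟩

theorem smlCell_mul_pos {g : Sp j C ⟶ G} (hg : g ∈ smlCell D j I b) {q : Sp j C ⟶ G}
    (hq : q ∈ sml D j I (RedSub.posRoots D.P b)) : g * q ∈ smlCell D j I b := by
  obtain ⟨p, hp, χ, hχ, q₀, hq₀, rfl⟩ := hg
  exact ⟨p, hp, χ, hχ, q₀ * q, mul_mem hq₀ hq, _root_.mul_assoc _ _ _⟩

theorem coroot_cochi {a : D.idx} (w : Cˣ) {ν : D.M} (hν : ∀ c, D.P.coroot c ν = 0) :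
    Chev.cochi a w (Multiplicative.ofAdd ν) = 1 := by
  simp [Chev.cochi, hν a]

variable [IsOpenImmersion j]

/-- The rank one rule near the unit. -/
theorem exists_swap_small (hI : ∀ r ∈ I, IsUnit (1 + r)) {a : D.idx} (ha : a ∈ RedSub.posRoots D.P b) {p r : C}
    (hp : p ∈ I) (hr : r ∈ I) :
    ∃ r' ∈ I, ∃ w : Cˣ, ∃ p' ∈ I, (gp j p ≫ D.u a) * (gp j r ≫ D.u (D.P.reflectionPerm a a)) =
      (gp j r' ≫ D.u (D.P.reflectionPerm a a)) * (tpt D j (Chev.cochi a w) ≫ D.i) * (gp j p' ≫ D.u a) := by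
  obtain ⟨c, hc⟩ := exists_formula_pos b ha
  let e := (Scheme.ΓSpecIso (CommRingCat.of C)).commRingCatIsoToRingEquiv
  have he : ∀ v, Red.gaFn (gp j v) = e.symm v := gaFn_gp (j := j)
  have hu : IsUnit (1 + Red.gmFn (toUnit (Sp j C) ≫ c) * Red.gaFn (gp j p) * Red.gaFn (gp j r)) := by
    have h := (hI (e (Red.gmFn (toUnit (Sp j C) ≫ c)) * p * r) (I.mul_mem_left _ hr)).map e.symm
    rw [map_add, map_one, map_mul, map_mul, RingEquiv.symm_apply_apply, ← he, ← he] at h
    exact h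
  obtain ⟨x', y', z, hz, hx', hy', h⟩ := hc _ (gp j p) (gp j r) hu
  let w := uv z
  have hw : z = up j w := (up_uv (j := j) z).symm
  have hz' : Red.gmFn z = e.symm (w : C) := by rw [hw, gmFn_up]; rfl
  have hmem : ∀ (v : Sp j C ⟶ Red.Ga S) (s : C), s ∈ I → Red.gaFn v * Red.gmFn z = Red.gaFn (gp j s) →
      gv v ∈ I := by
    intro v s hs hv
    have h' := congrArg e hv
    rw [map_mul, hz', he, RingEquiv.apply_symm_apply, RingEquiv.apply_symm_apply] at h'
    have : gv v = s * ↑w⁻¹ := by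
      rw [Units.eq_mul_inv_iff_mul_eq, ← h']
      rfl
    rw [this]
    exact I.mul_mem_right _ hs
  refine ⟨gv y', hmem y' r hr hy', w, gv x', hmem x' p hp hx', ?_⟩
  rw [gp_gv, gp_gv, h, ← Chev.up_avc j (fun c => coav D c) (fun _ => rfl) a w, hw]
  simp only [coav, Category.assoc]

/-- Conjugation by a point realising a simple reflection preserves the small cell. -/
theorem conj_mem_smlCell (hI : ∀ r ∈ I, IsUnit (1 + r)) {a : D.idx} (ha : a ∈ b.support)
    {n : 𝟙_ (Over S) ⟶ G} (hn : Chev.ActsBy n a) {g : Sp j C ⟶ G} (hg : g ∈ smlCell D j I b) :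
    (toUnit (Sp j C) ≫ n) * g * (toUnit (Sp j C) ≫ n)⁻¹ ∈ smlCell D j I b := by
  classical
  haveI : Finite D.idx := Finite.of_fintype _
  haveI := isMonHom_i (D := D)
  haveI : ∀ c, IsMonHom (D.u c) := fun c => (D.rootHom c).1
  obtain ⟨p, hp, χ, hχ, q, hq, rfl⟩ := hg
  set a' := D.P.reflectionPerm a a with ha'
  have hapos := simple_pos D.P b ha
  have ha'neg : a' ∈ RedSub.negRoots D.P b := neg_simple_neg b ha
  obtain ⟨lam, hl⟩ := hasLam b
  obtain ⟨lvp, hFp⟩ := exists_filt_pos (D := D) b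
  obtain ⟨lvn, hFn⟩ := exists_filt_neg (D := D) b
  obtain ⟨m, epos, hpos⟩ := exists_enum (D := D) (RedSub.posRoots D.P b)
  obtain ⟨k, eneg, hneg⟩ := exists_enum (D := D) (RedSub.negRoots D.P b)
  let Lp := (List.ofFn epos).erase a
  let Ln := (List.ofFn eneg).erase a'
  have hLp : ∀ c, c ∈ Lp ↔ c ∈ RedSub.posRoots D.P b ∧ c ≠ a := fun c => by
    rw [(nodup_list hpos).mem_erase_iff, mem_list_iff hpos, and_comm]
  have hLn : ∀ c, c ∈ Ln ↔ c ∈ RedSub.negRoots D.P b ∧ c ≠ a' := fun c => by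
    rw [(nodup_list hneg).mem_erase_iff, mem_list_iff hneg, and_comm]
  obtain ⟨x, hx, rfl⟩ := exists_sml_coords I hFp (fun c hc => (hl c).1 hc) (l := a :: Lp)
    (List.nodup_cons.2 ⟨fun h => ((hLp a).1 h).2 rfl, (nodup_list hpos).erase a⟩) (fun c => by
      rw [List.mem_cons, hLp]
      exact ⟨fun h => h.elim (fun e => e ▸ hapos) (·.1), fun h => (em (c = a)).imp_right fun h' => ⟨h, h'⟩⟩) hq
  obtain ⟨y, hy, rfl⟩ := exists_sml_coords I hFn (mu := -lam) (fun c hc => by simpa using (hl c).2 hc)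
    (l := Ln ++ [a']) (List.nodup_append.2 ⟨(nodup_list hneg).erase a', List.nodup_singleton _, fun c hc d hd e => by
      rw [List.mem_singleton] at hd
      exact ((hLn c).1 hc).2 (e.trans hd)⟩) (fun c => by
      rw [List.mem_append, List.mem_singleton, hLn]
      exact ⟨fun h => h.elim (·.1) (fun e => e ▸ ha'neg), fun h => ((em (c = a')).symm).imp_left fun h' => ⟨h, h'⟩⟩) hp
  let V := toUnit (Sp j C) ≫ n
  have hconjpt : ∀ (c : D.idx), ∃ w : Rˣ, ∀ r : C, V * (gp j r ≫ D.u c) * V⁻¹ =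
      gp j (algebraMap R C (w : R) * r) ≫ D.u (D.P.reflectionPerm a c) := fun c => by
    obtain ⟨w, hw⟩ := exists_conj_scale (j := j) b hn c
    exact ⟨w, fun r => hw C r⟩
  have hconj : ∀ (L : List D.idx) (Ψ : Set D.idx) (z : D.idx → C), (∀ c ∈ L, z c ∈ I) →
      (∀ c ∈ L, D.P.reflectionPerm a c ∈ Ψ) → V * rootProd j D.u L z * V⁻¹ ∈ sml D j I Ψ := by
    intro L Ψ z hz hΨ
    induction L with
    | nil => simp [rootProd]
    | cons c L ih =>
      obtain ⟨w, hw⟩ := hconjpt c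
      have e : V * rootProd j D.u (c :: L) z * V⁻¹ =
          (V * (gp j (z c) ≫ D.u c) * V⁻¹) * (V * rootProd j D.u L z * V⁻¹) := by
        simp only [rootProd, List.map_cons, List.prod_cons]; group
      rw [e, hw]
      exact mul_mem (gp_mem_sml I (hΨ c List.mem_cons_self) (I.mul_mem_left _ (hz c List.mem_cons_self)))
        (ih (fun d hd => hz d (List.mem_cons_of_mem _ hd)) fun d hd => hΨ d (List.mem_cons_of_mem _ hd))
  obtain ⟨w₁, hw₁⟩ := hconjpt a'
  obtain ⟨w₂, hw₂⟩ := hconjpt a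
  rw [ha', D.P.reflectionPerm_self, ← ha'] at hw₁
  rw [← ha'] at hw₂
  have hq' := hconj Lp (RedSub.posRoots D.P b) x (fun c hc => hx c (List.mem_cons_of_mem _ hc))
    fun c hc => refl_simple_pos D.P b ha ((hLp c).1 hc).1 ((hLp c).1 hc).2
  have hp' := hconj Ln (RedSub.negRoots D.P b) y (fun c hc => hy c (List.mem_append_left _ hc)) fun c hc => by
    obtain ⟨hcn, hca⟩ := (hLn c).1 hc
    have h := refl_simple_pos D.P b ha (c := D.P.reflectionPerm c c) (by
      show D.P.root _ ∈ AddSubmonoid.closure _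
      rw [root_neg']; exact hcn) (fun e => hca (D.P.root.injective (by
        rw [root_neg', ← congrArg D.P.root e, root_neg', neg_neg])))
    show -D.P.root _ ∈ AddSubmonoid.closure _
    rw [D.P.root_reflectionPerm, ← map_neg, ← root_neg' D.P c, ← D.P.root_reflectionPerm]
    exact h
  have hσ : ∀ ν : D.M, (∀ c, D.P.coroot c ν = 0) → Chev.reflChar a χ (Multiplicative.ofAdd ν) = 1 := fun ν hν => by
    show χ (Multiplicative.ofAdd (D.P.reflection a ν)) = 1
    rw [RootPairing.reflection_apply, show D.P.coroot' a ν = D.P.coroot a ν by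
      rw [RootPairing.coroot', D.pairing_eq]; rfl, hν a, zero_smul, sub_zero]
    exact hχ ν hν
  set σ := Chev.reflChar a χ
  set r₁ := algebraMap R C (w₁ : R) * y a'
  set r₂ := algebraMap R C (w₂ : R) * x a
  have hr₁ : r₁ ∈ I := I.mul_mem_left _ (hy a' (by simp))
  have hr₂ : r₂ ∈ I := I.mul_mem_left _ (hx a List.mem_cons_self)
  obtain ⟨r₃, hr₃, w, r₄, hr₄, hsw⟩ := exists_swap_small (j := j) I b hI hapos hr₁
    (I.mul_mem_left (σ (Multiplicative.ofAdd (D.P.root a'))) hr₂)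
  obtain ⟨σi, hσi⟩ : ∃ σi : Multiplicative D.M →* C, σi * σ = 1 :=
    ⟨(Units.coeHom C).comp σ.toHomUnits⁻¹, MonoidHom.ext fun m => Units.inv_mul (σ.toHomUnits m)⟩
  have hmove : (tpt D j σ ≫ D.i) * (gp j r₂ ≫ D.u a') =
      (gp j (σ (Multiplicative.ofAdd (D.P.root a')) * r₂) ≫ D.u a') * (tpt D j σ ≫ D.i) := by
    rw [← conj_root j D.rootHom σ a' r₂]; group
  have hmove' : (gp j r₄ ≫ D.u a) * (tpt D j σ ≫ D.i) =
      (tpt D j σ ≫ D.i) * (gp j (σi (Multiplicative.ofAdd (D.P.root a)) * r₄) ≫ D.u a) := by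
    have hone : σ (Multiplicative.ofAdd (D.P.root a)) * (σi (Multiplicative.ofAdd (D.P.root a)) * r₄) = r₄ := by
      rw [← _root_.mul_assoc, _root_.mul_comm (σ _), ← MonoidHom.mul_apply, hσi, MonoidHom.one_apply,
        _root_.one_mul]
    conv_lhs => rw [← hone, ← conj_root j D.rootHom σ a]
    group
  refine ⟨(V * rootProd j D.u Ln y * V⁻¹) * (gp j r₃ ≫ D.u a'), mul_mem hp' (gp_mem_sml I ha'neg hr₃),
    Chev.cochi a w * σ, fun ν hν => ?_, (gp j (σi (Multiplicative.ofAdd (D.P.root a)) * r₄) ≫ D.u a) *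
      (V * rootProd j D.u Lp x * V⁻¹), mul_mem (gp_mem_sml I hapos (I.mul_mem_left _ hr₄)) hq', ?_⟩
  · rw [MonoidHom.mul_apply, coroot_cochi w hν, hσ ν hν, _root_.one_mul]
  have hT : V * (tpt D j χ ≫ D.i) * V⁻¹ = tpt D j σ ≫ D.i := hn R j C χ
  rw [tpt_mul, MonObj.mul_comp]
  simp only [rootProd, List.map_cons, List.prod_cons, List.map_append, List.prod_append, List.map_nil,
    List.prod_nil, _root_.mul_one]
  calc _ = (V * (List.map (fun c => gp j (y c) ≫ D.u c) Ln).prod * V⁻¹) * (V * (gp j (y a') ≫ D.u a') * V⁻¹) *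
        ((V * (tpt D j χ ≫ D.i) * V⁻¹) * (V * (gp j (x a) ≫ D.u a) * V⁻¹)) *
          (V * (List.map (fun c => gp j (x c) ≫ D.u c) Lp).prod * V⁻¹) := by simp only [V]; group
    _ = (V * (List.map (fun c => gp j (y c) ≫ D.u c) Ln).prod * V⁻¹) *
        ((gp j r₁ ≫ D.u a) * (gp j (σ (Multiplicative.ofAdd (D.P.root a')) * r₂) ≫ D.u a')) *
          (tpt D j σ ≫ D.i) * (V * (List.map (fun c => gp j (x c) ≫ D.u c) Lp).prod * V⁻¹) := by
      rw [hT, hw₁, hw₂, hmove]; simp only [← _root_.mul_assoc, r₁]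
    _ = _ := by
      rw [hsw]
      simp only [_root_.mul_assoc]
      congr 3
      rw [← _root_.mul_assoc (gp j r₄ ≫ D.u a), hmove', _root_.mul_assoc]

/-- The small cell is stable under all small root points. -/
theorem smlCell_mul_gp (hI : ∀ r ∈ I, IsUnit (1 + r)) {g : Sp j C ⟶ G} (hg : g ∈ smlCell D j I b) (c : D.idx)
    {r : C} (hr : r ∈ I) : g * (gp j r ≫ D.u c) ∈ smlCell D j I b := by
  classical
  haveI : Finite D.idx := Finite.of_fintype _
  haveI := isReduced D.P b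
  haveI := Chart.RootCombo.isCrystallographic D.P
  choose nr hnr using D.refl
  have hn : ∀ a, Chev.ActsBy (nr a) a := fun a => actsBy_of_refl (hnr a)
  let St : Set D.idx := {c | ∀ g ∈ smlCell D j I b, ∀ r ∈ I, g * (gp j r ≫ D.u c) ∈ smlCell D j I b}
  have hpos : ∀ c ∈ RedSub.posRoots D.P b, c ∈ St := fun c hc g hg r hr =>
    smlCell_mul_pos I b hg (gp_mem_sml I hc hr)
  have hrefl : ∀ a ∈ b.support, ∀ e ∈ St, D.P.reflectionPerm a e ∈ St := by
    intro a ha e he g hg r hr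
    obtain ⟨w, hw⟩ := exists_conj_scale (j := j) b (hn a) e
    let V := toUnit (Sp j C) ≫ nr a
    let r₀ := algebraMap R C ((w⁻¹ : Rˣ) : R) * r
    have hr₀ : algebraMap R C (w : R) * r₀ = r := by
      rw [← _root_.mul_assoc, ← map_mul, Units.mul_inv, map_one, _root_.one_mul]
    have h1 := conj_mem_smlCell I b hI ha (actsBy_inv (hn a)) hg
    have h2 := conj_mem_smlCell I b hI ha (hn a) (he _ h1 r₀ (I.mul_mem_left _ hr))
    have e' : g * (gp j r ≫ D.u (D.P.reflectionPerm a e)) =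
        (toUnit (Sp j C) ≫ nr a) * ((toUnit (Sp j C) ≫ (nr a)⁻¹) * g * (toUnit (Sp j C) ≫ (nr a)⁻¹)⁻¹ *
          (gp j r₀ ≫ D.u e)) * (toUnit (Sp j C) ≫ nr a)⁻¹ := by
      rw [← hr₀, ← hw C r₀, GrpObj.comp_inv]; group
    rw [e']
    exact h2
  have hall : ∀ c : D.idx, c ∈ St ∧ D.P.reflectionPerm c c ∈ St := by
    intro c
    induction c using RootPairing.Base.induction_reflect (b := b) with
    | h₀ i hi =>
      refine ⟨hi.2, ?_⟩
      rw [show D.P.reflectionPerm (D.P.reflectionPerm i i) (D.P.reflectionPerm i i) = i from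
        D.P.root.injective (by rw [root_neg', root_neg', neg_neg])]
      exact hi.1
    | h₁ i hi => exact ⟨hpos i (simple_pos D.P b hi), hrefl i hi i (hpos i (simple_pos D.P b hi))⟩
    | h₂ i a hi ha =>
      refine ⟨hrefl a ha i hi.1, ?_⟩
      rw [show D.P.reflectionPerm (D.P.reflectionPerm a i) (D.P.reflectionPerm a i) =
          D.P.reflectionPerm a (D.P.reflectionPerm i i) from D.P.root.injective (by
        rw [root_neg', D.P.root_reflectionPerm, D.P.root_reflectionPerm a (D.P.reflectionPerm i i), root_neg',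
          map_neg])]
      exact hrefl a ha _ hi.2
  exact (hall c).1 g hg r hr

/-- The torus part of a product near the unit is killed by the characters orthogonal to the coroots. -/
theorem char_eq_one_small (hI : ∀ r ∈ I, IsUnit (1 + r)) {n m : ℕ} {eneg : Fin n → D.idx} {epos : Fin m → D.idx}
    (hneg : RedSub.Enumerates (RedSub.negRoots D.P b) eneg) (hpos : RedSub.Enumerates (RedSub.posRoots D.P b) epos)
    {x y : D.idx → C} (hx : ∀ c, x c ∈ I) (hy : ∀ c, y c ∈ I) {χ : Multiplicative D.M →* C} {y' x' : D.idx → C}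
    (h : rootProd j D.u (List.ofFn epos) x * rootProd j D.u (List.ofFn eneg) y =
      rootProd j D.u (List.ofFn eneg) y' * ((tpt D j χ ≫ D.i) * rootProd j D.u (List.ofFn epos) x'))
    (ν : D.M) (hν : ∀ c, D.P.coroot c ν = 0) : χ (Multiplicative.ofAdd ν) = 1 := by
  haveI := isMonHom_i (D := D)
  haveI : ∀ c, IsMonHom (D.u c) := fun c => (D.rootHom c).1
  have hK : rootProd j D.u (List.ofFn epos) x * rootProd j D.u (List.ofFn eneg) y ∈ smlCell D j I b := by
    have hstep : ∀ (l : List D.idx) (g : Sp j C ⟶ G), g ∈ smlCell D j I b →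
        g * rootProd j D.u l y ∈ smlCell D j I b := by
      intro l
      induction l with
      | nil => intro g hg; simpa [rootProd] using hg
      | cons c l ih =>
        intro g hg
        simp only [rootProd, List.map_cons, List.prod_cons]
        rw [← _root_.mul_assoc]
        exact ih _ (smlCell_mul_gp I b hI hg c (hy c))
    refine hstep _ _ ?_
    have h1 := smlCell_mul_pos I b (one_mem_smlCell (j := j) I b)
      (rootProd_mem_sml I (l := List.ofFn epos) (fun c hc => (mem_list_iff hpos c).1 hc) fun c _ => hx c)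
    rwa [_root_.one_mul] at h1
  obtain ⟨p, hp, τ, hτ, q, hq, e⟩ := hK
  obtain ⟨lam, hl⟩ := hasLam b
  obtain ⟨lvp, hFp⟩ := exists_filt_pos (D := D) b
  obtain ⟨lvn, hFn⟩ := exists_filt_neg (D := D) b
  obtain ⟨x₀, -, rfl⟩ := exists_sml_coords I hFp (fun c hc => (hl c).1 hc) (nodup_list hpos) (mem_list_iff hpos) hq
  obtain ⟨y₀, -, rfl⟩ := exists_sml_coords I hFn (mu := -lam) (fun c hc => by simpa using (hl c).2 hc)
    (nodup_list hneg) (mem_list_iff hneg) hp
  rw [h, _root_.mul_assoc] at e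
  obtain ⟨rfl, -, -⟩ := cell_injective D.rootHom (mu := lam) (nodup_list hneg) (nodup_list hpos)
    (fun c hc => (hl c).2 ((mem_list_iff hneg c).1 hc)) (fun c hc => (hl c).1 ((mem_list_iff hpos c).1 hc)) e
  exact hτ ν hν

end Groth.L14.Coroot
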